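import Groth.Agent.TwConst.Basic
import Groth.Agent.QFCoverLib.Scheme
import Groth.Agent.EtaleSplit.Nbhd
import Groth.Agent.S2735
import Groth.Agent.FlatLocus.FibreCrit
import Groth.Agent.CompTopLib.Basic
/-!
Twisted constant schemes for the fppf topology are quasi-isotrivial.
-/

set_option autoImplicit false
set_option backward.isDefEq.respectTransparency false
set_option backward.isDefEq.respectTransparency.types false
set_option linter.style.haveILetI false

universe u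

open CategoryTheory CategoryTheory.Limits AlgebraicGeometry MonoidalCategory
open Groth.Agent.EtaleSplit (pt GPts)

noncomputable section

namespace Groth.Agent.TwConst

/-- The comparison of a pulled back disjoint union with the disjoint union is an isomorphism. -/
theorem isIso_sigma_lift {S S' : Scheme.{u}} (k : S' ⟶ S) (I : Type u) :
    IsIso (Sigma.desc fun i : I => pullback.lift (f := Sigma.desc fun _ : I => 𝟙 S) (g := k)
      (k ≫ Sigma.ι (fun _ : I => S) i) (𝟙 S') (by simp)) := by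
  let d : (∐ fun _ : I => S) ⟶ S := Sigma.desc fun _ => 𝟙 S
  let l : I → (S' ⟶ pullback d k) := fun i => pullback.lift (k ≫ Sigma.ι (fun _ : I => S) i) (𝟙 S') (by simp [d])
  have hl : ∀ i, IsPullback (l i) k (pullback.fst d k) (Sigma.ι (fun _ : I => S) i) := fun i => by
    refine IsPullback.of_right ?_ (pullback.lift_fst _ _ _) (IsPullback.of_hasPullback d k).flip
    rw [pullback.lift_snd, Sigma.ι_desc]
    exact IsPullback.of_horiz_isIso ⟨by simp⟩
  haveI : ∀ i, IsOpenImmersion (l i) := fun i => MorphismProperty.of_isPullback (hl i).flip inferInstance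
  show IsIso (Sigma.desc l)
  haveI : IsOpenImmersion (Sigma.desc l) := isOpenImmersion_sigmaDesc _ _ fun i j hij => by
    refine Set.disjoint_left.mpr ?_
    rintro z ⟨a, rfl⟩ ⟨b, hb⟩
    have h := congrArg (pullback.fst d k) hb
    simp only [← Scheme.Hom.comp_apply, l, pullback.lift_fst] at h
    simp only [Scheme.Hom.comp_apply] at h
    have hd := disjoint_iff.mp (disjoint_opensRange_sigmaι (fun _ : I => S) i j hij)
    have hm : Sigma.ι (fun _ : I => S) i (k a) ∈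
        (Sigma.ι (fun _ : I => S) i).opensRange ⊓ (Sigma.ι (fun _ : I => S) j).opensRange :=
      ⟨⟨_, rfl⟩, ⟨k b, h⟩⟩
    rw [hd] at hm
    exact hm
  haveI : Surjective (Sigma.desc l) := ⟨fun z => by
    obtain ⟨⟨i, a⟩, ha⟩ := (sigmaMk fun _ : I => S).surjective (pullback.fst d k z)
    rw [sigmaMk_mk] at ha
    obtain ⟨y, hy, -⟩ := Scheme.exists_preimage_of_isPullback (hl i) z a ha.symm
    exact ⟨Sigma.ι (fun _ : I => S') i y, by rw [← Scheme.Hom.comp_apply, Sigma.ι_desc, hy]⟩⟩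
  rw [isIso_iff_isOpenImmersion_and_epi_base]
  exact ⟨inferInstance, (TopCat.epi_iff_surjective _).mpr (Sigma.desc l).surjective⟩

/-- Sections of a disjoint union over a preconnected base which meet at a point are equal. -/
theorem section_eq {P : Scheme.{u}} [PreconnectedSpace P] {I : Type u} (a b : P ⟶ ∐ fun _ : I => P)
    (ha : a ≫ Sigma.desc (fun _ : I => 𝟙 P) = 𝟙 P) (hb : b ≫ Sigma.desc (fun _ : I => 𝟙 P) = 𝟙 P)
    (p : P) (h : a p = b p) : a = b := by
  obtain ⟨⟨i, c⟩, hc⟩ := (sigmaMk fun _ : I => P).surjective (a p)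
  rw [sigmaMk_mk] at hc
  have key : ∀ t : P ⟶ ∐ fun _ : I => P, t ≫ Sigma.desc (fun _ : I => 𝟙 P) = 𝟙 P →
      t p ∈ Set.range (Sigma.ι (fun _ : I => P) i) → t = Sigma.ι (fun _ : I => P) i := fun t ht htp => by
    have hclosed : IsClosed (Set.range (Sigma.ι (fun _ : I => P) i)) := by
      have hc : Set.range (Sigma.ι (fun _ : I => P) i) =
          (⋃ j ∈ {j | j ≠ i}, Set.range (Sigma.ι (fun _ : I => P) j))ᶜ := by
        ext z
        simp only [Set.mem_compl_iff, Set.mem_iUnion, not_exists]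
        constructor
        · intro hz j hj hzj
          have hd := disjoint_iff.mp (disjoint_opensRange_sigmaι (fun _ : I => P) j i hj)
          have hm : z ∈ (Sigma.ι (fun _ : I => P) j).opensRange ⊓
              (Sigma.ι (fun _ : I => P) i).opensRange := ⟨hzj, hz⟩
          rw [hd] at hm
          exact hm
        · intro hz
          obtain ⟨⟨j, b⟩, hb⟩ := (sigmaMk fun _ : I => P).surjective z
          rw [sigmaMk_mk] at hb
          by_cases hji : j = i
          · subst hji; exact ⟨b, hb⟩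
          · exact absurd ⟨b, hb⟩ (hz j hji)
      rw [hc]
      exact (isOpen_biUnion fun j _ => (Sigma.ι (fun _ : I => P) j).isOpenEmbedding.isOpen_range).isClosed_compl
    have hu := IsClopen.eq_univ ⟨hclosed.preimage t.continuous,
      (Sigma.ι (fun _ : I => P) i).isOpenEmbedding.isOpen_range.preimage t.continuous⟩ ⟨p, htp⟩
    have hr : Set.range t ⊆ Set.range (Sigma.ι (fun _ : I => P) i) := by
      rintro _ ⟨z, rfl⟩
      exact hu.symm.subset (Set.mem_univ z)
    have hl := IsOpenImmersion.lift_fac (Sigma.ι (fun _ : I => P) i) t hr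
    rw [← hl] at ht ⊢
    rw [Category.assoc, Sigma.ι_desc, Category.comp_id] at ht
    rw [ht, Category.id_comp]
  exact (key a ha ⟨c, hc⟩).trans (key b hb (h ▸ ⟨c, hc⟩)).symm

/-- Descent of constancy along a finite flat covering with preconnected double product. -/
theorem const_descends {U V : Scheme.{u}} (π : V ⟶ U) [QuasiCompact π] [Flat π] [Surjective π]
    [PreconnectedSpace (pullback π π : Scheme.{u})] (v : V) (X : Over U) {I : Type u}
    (e : Red.bc π X ≅ TwC.const V I) : Nonempty (X ≅ TwC.const U I) := by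
  let ei : (∐ fun _ : I => V) ⟶ pullback X.hom π := e.inv.left
  haveI : IsIso ei := ((Over.forget _).mapIso e.symm).isIso_hom
  have hei : ei ≫ pullback.snd X.hom π = Sigma.desc fun _ : I => 𝟙 V := Over.w e.inv
  let a : I → (V ⟶ X.left) := fun i => Sigma.ι (fun _ : I => V) i ≫ ei ≫ pullback.fst X.hom π
  have ha : ∀ i, a i ≫ X.hom = π := fun i => by
    simp only [a, Category.assoc, pullback.condition]
    rw [reassoc_of% hei, Sigma.ι_desc_assoc, Category.id_comp]
  have hker : ∀ i, pullback.fst π π ≫ a i = pullback.snd π π ≫ a i := fun i => by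
    let k : pullback π π ⟶ U := pullback.fst π π ≫ π
    obtain ⟨e2⟩ := trivial_comp (pullback.fst π π) e
    let A : pullback π π ⟶ pullback X.hom k := pullback.lift (pullback.fst π π ≫ a i) (𝟙 _) (by simp [k, ha])
    let B : pullback π π ⟶ pullback X.hom k := pullback.lift (pullback.snd π π ≫ a i) (𝟙 _) (by simp [k, ha, pullback.condition])
    let e2' : pullback X.hom k ⟶ ∐ fun _ : I => (pullback π π : Scheme.{u}) := e2.hom.left
    haveI : IsIso e2' := ((Over.forget _).mapIso e2).isIso_hom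
    have he2 : e2' ≫ Sigma.desc (fun _ : I => 𝟙 _) = pullback.snd X.hom k := Over.w e2.hom
    let δ : V ⟶ pullback π π := pullback.lift (𝟙 V) (𝟙 V) rfl
    have hδ : δ ≫ A = δ ≫ B := by
      apply pullback.hom_ext <;> simp [δ, A, B]
    have hAB : A ≫ e2' = B ≫ e2' := section_eq (A ≫ e2') (B ≫ e2') (by simp [A, he2]) (by simp [B, he2]) (δ v) (by
      simp only [← Scheme.Hom.comp_apply]
      rw [← Category.assoc, ← Category.assoc, hδ])
    simpa [A, B] using congrArg (· ≫ pullback.fst X.hom k) ((cancel_mono e2').1 hAB)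
  choose b hb using fun i => (⟨EffectiveEpi.desc π (a i) (fun {Z} g₁ g₂ h => by
      simpa using congrArg (pullback.lift g₁ g₂ h ≫ ·) (hker i)), EffectiveEpi.fac _ _ _⟩ :
    ∃ b : U ⟶ X.left, π ≫ b = a i)
  have hbX : ∀ i, b i ≫ X.hom = 𝟙 U := fun i => by
    rw [← cancel_epi π, reassoc_of% (hb i), ha, Category.comp_id]
  let d : (∐ fun _ : I => U) ⟶ U := Sigma.desc fun _ => 𝟙 U
  let Φ : (∐ fun _ : I => U) ⟶ X.left := Sigma.desc b
  have hΦ : Φ ≫ X.hom = d := Sigma.hom_ext _ _ fun i => by simp [Φ, d, hbX]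
  let Ψ : pullback d π ⟶ pullback X.hom π := pullback.lift (pullback.fst d π ≫ Φ) (pullback.snd d π)
    (by rw [Category.assoc, hΦ]; exact pullback.condition)
  haveI := isIso_sigma_lift π I
  haveI : IsIso Ψ := by
    refine IsIso.of_isIso_fac_left (h := ei)
      (f := Sigma.desc fun i : I => pullback.lift (f := Sigma.desc fun _ : I => 𝟙 U) (g := π)
        (π ≫ Sigma.ι (fun _ : I => U) i) (𝟙 V) (by simp)) ?_
    refine Sigma.hom_ext _ _ fun i => ?_
    rw [Sigma.ι_desc_assoc]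
    apply pullback.hom_ext
    · simp only [Ψ, Category.assoc, pullback.lift_fst, d, pullback.lift_fst_assoc, Φ, Sigma.ι_desc, hb, a]
    · simp only [Ψ, Category.assoc, pullback.lift_snd, d, hei, Sigma.ι_desc]
  have hsq : IsPullback Ψ (pullback.fst d π) (pullback.fst X.hom π) Φ := by
    refine IsPullback.of_right ?_ (pullback.lift_fst _ _ _) (IsPullback.of_hasPullback X.hom π).flip
    rw [pullback.lift_snd, hΦ]
    exact (IsPullback.of_hasPullback d π).flip
  haveI : IsIso Φ := MorphismProperty.of_isPullback_of_descendsAlong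
    (P := MorphismProperty.isomorphisms Scheme.{u}) (Q := @Surjective ⊓ @Flat ⊓ @QuasiCompact)
    hsq ⟨⟨inferInstance, inferInstance⟩, inferInstance⟩ (inferInstance : IsIso Ψ)
  exact ⟨(Over.isoMk (asIso Φ) hΦ : TwC.const U I ≅ X).symm⟩

/-- Near a point with only one point of the double product above it the double product is preconnected. -/
theorem exists_nhd_preconnected {U V : Scheme.{u}} (π : V ⟶ U) [IsFinite π] [IsNoetherian U] (u₀ : U) (v : V)
    (hv : π v = u₀) (huniq : ∀ w w' : ↑(pullback π π),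
      (pullback.fst π π ≫ π) w = u₀ → (pullback.fst π π ≫ π) w' = u₀ → w = w') :
    ∃ N : U.Opens, u₀ ∈ N ∧ PreconnectedSpace ↑(pullback (π ∣_ N) (π ∣_ N)) := by
  let h : pullback π π ⟶ U := pullback.fst π π ≫ π
  haveI : IsFinite h := inferInstance
  haveI : IsLocallyNoetherian (pullback π π : Scheme.{u}) := LocallyOfFiniteType.isLocallyNoetherian h
  haveI : CompactSpace ↑(pullback π π) := by
    refine ⟨?_⟩
    simpa using QuasiCompact.isCompact_preimage (f := h) Set.univ isOpen_univ isCompact_univ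
  haveI : IsNoetherian (pullback π π : Scheme.{u}) := {}
  let w₀ : ↑(pullback π π) := (pullback.lift (𝟙 V) (𝟙 V) rfl : V ⟶ pullback π π) v
  have hw₀ : h w₀ = u₀ := by
    simp only [h, w₀, ← Scheme.Hom.comp_apply, pullback.lift_fst_assoc, Category.id_comp]
    exact hv
  let K : Set ↑(pullback π π) := ⋃ Z ∈ {Z ∈ irreducibleComponents ↑(pullback π π) | w₀ ∉ Z}, Z
  have hK : IsClosed K := ((TopologicalSpace.NoetherianSpace.finite_irreducibleComponents
    (α := ↑(pullback π π))).subset fun Z hZ => hZ.1).isClosed_biUnion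
      fun Z hZ => isClosed_of_mem_irreducibleComponents Z hZ.1
  let N : U.Opens := ⟨(h '' K)ᶜ, (h.isClosedMap _ hK).isOpen_compl⟩
  have hu : u₀ ∈ N := by
    rintro ⟨w, hwK, hw⟩
    obtain ⟨Z, hZ, hwZ⟩ := Set.mem_iUnion₂.1 hwK
    exact hZ.2 ((huniq w w₀ hw hw₀) ▸ hwZ)
  let D : Set ↑(pullback π π) := h ⁻¹' (N : Set U)
  have hD : _root_.IsPreconnected D := by
    refine isPreconnected_of_forall w₀ fun w hw => ?_
    refine ⟨irreducibleComponent w ∩ D, Set.inter_subset_right, ⟨?_, show h w₀ ∈ N from hw₀.symm ▸ hu⟩,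
      ⟨mem_irreducibleComponent, hw⟩, ?_⟩
    · by_contra hn
      exact hw ⟨w, Set.mem_biUnion ⟨irreducibleComponent_mem_irreducibleComponents w, hn⟩ mem_irreducibleComponent, rfl⟩
    · refine (IsIrreducible.isConnected (s := irreducibleComponent w ∩ D) ⟨⟨w, mem_irreducibleComponent, hw⟩, ?_⟩).isPreconnected
      rintro o o' ho ho' ⟨x, ⟨hxZ, hxD⟩, hxo⟩ ⟨y, ⟨hyZ, hyD⟩, hyo⟩
      have hDo : IsOpen D := N.2.preimage h.continuous
      obtain ⟨z, hzZ, ⟨hzo, hzD⟩, hzo', -⟩ := isIrreducible_irreducibleComponent.isPreirreducible (o ∩ D) (o' ∩ D)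
        (ho.inter hDo) (ho'.inter hDo) ⟨x, hxZ, hxo, hxD⟩ ⟨y, hyZ, hyo, hyD⟩
      exact ⟨z, ⟨hzZ, hzD⟩, hzo, hzo'⟩
  refine ⟨N, hu, ⟨?_⟩⟩
  let m : pullback (π ∣_ N) (π ∣_ N) ⟶ pullback π π := pullback.map (π ∣_ N) (π ∣_ N) π π
    (π ⁻¹ᵁ N).ι (π ⁻¹ᵁ N).ι N.ι (morphismRestrict_ι π N) (morphismRestrict_ι π N)
  haveI : IsOpenImmersion m := inferInstance
  rw [← m.isOpenEmbedding.isInducing.isPreconnected_image, Set.image_univ,
    Scheme.Pullback.range_map, Scheme.Opens.range_ι]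
  have hsnd : ∀ w, π (pullback.fst π π w) = π (pullback.snd π π w) := fun w => by
    simp only [← Scheme.Hom.comp_apply, pullback.condition]
  convert hD using 1
  ext w
  show π (pullback.fst π π w) ∈ N ∧ π (pullback.snd π π w) ∈ N ↔ π (pullback.fst π π w) ∈ N
  rw [← hsnd w, and_self_iff]

/-- A twisted constant scheme for fppf is quasi-isotrivial. -/
theorem isTwConst_etale_of_fppf {S : Scheme.{u}} [IsLocallyNoetherian S] {X : Over S}
    (hX : TwC.IsTwConst .fppf X) : TwC.IsTwConst .etale X := by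
  intro s
  obtain ⟨T, f, hf, hfp, ⟨t, rfl⟩, I, ⟨e⟩⟩ := hX s
  haveI := hf; haveI := hfp
  let W : S.Opens := ⟨Set.range f, f.isOpenMap.isOpen_range⟩
  let f' : T ⟶ (W : Scheme.{u}) := IsOpenImmersion.lift W.ι f (le_of_eq (Scheme.Opens.range_ι W).symm)
  have hf' : f' ≫ W.ι = f := IsOpenImmersion.lift_fac _ _ _
  haveI : Flat f' := MorphismProperty.of_postcomp (W' := (@IsOpenImmersion : MorphismProperty Scheme.{u})) (W := (@Flat : MorphismProperty Scheme.{u})) f' W.ι inferInstance (by rw [hf']; infer_instance)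
  haveI : LocallyOfFinitePresentation (f' ≫ W.ι) := by rw [hf']; infer_instance
  haveI : LocallyOfFinitePresentation f' := FlatLocus.locallyOfFinitePresentation_of_comp f' W.ι
  haveI : Surjective f' := ⟨fun w => by
    obtain ⟨t', ht'⟩ := w.2
    refine ⟨t', W.ι.isOpenEmbedding.injective ?_⟩
    rw [← Scheme.Hom.comp_apply, hf']; exact ht'⟩
  obtain ⟨S₁, g, h, hhg, hg₁, hg₂, hg₃, hg₄, -⟩ := Groth.Agent.S2735.result f'
  haveI := hg₁; haveI := hg₂; haveI := hg₃; haveI := hg₄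
  let g₀ : S₁ ⟶ S := g ≫ W.ι
  obtain ⟨y, hy⟩ := g.surjective ⟨f t, t, rfl⟩
  let Ω := AlgebraicClosure (S₁.residueField y)
  let p : Spec (.of Ω) ⟶ S₁ := Spec.map (CommRingCat.ofHom (algebraMap (S₁.residueField y) Ω)) ≫ S₁.fromSpecResidueField y
  have hp : pt p = y := S₁.fromSpecResidueField_apply y _
  obtain ⟨U, gU, qT, hqT, V, hgU, hVfin, -, hmem, huniq⟩ :=
    EtaleSplit.exists_split_one g₀ (p ≫ g₀) ⟨p, rfl⟩ ⊤ trivial (g₀.quasiFiniteAt _)
  haveI := hgU; haveI := hVfin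
  let π : (V : Scheme.{u}) ⟶ U := V.ι ≫ pullback.snd g₀ gU
  let k : (V : Scheme.{u}) ⟶ T := V.ι ≫ pullback.fst g₀ gU ≫ h
  have hk : k ≫ f = π ≫ gU := by
    simp only [k, π, Category.assoc, ← pullback.condition, g₀, ← hhg, hf']
  obtain ⟨e₁⟩ := trivial_comp k e
  -- the point of V
  let r₀ := pullback.lift p qT hqT.symm
  let v : (V : Scheme.{u}) := ⟨pt r₀, hmem⟩
  have hv : π v = pt qT := by
    show pullback.snd g₀ gU (pt r₀) = _
    rw [← EtaleSplit.pt_comp, pullback.lift_snd]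
  -- an affine noetherian neighbourhood inside the image
  haveI : IsLocallyNoetherian U := LocallyOfFiniteType.isLocallyNoetherian gU
  haveI : Flat π := inferInstance
  haveI : LocallyOfFinitePresentation π := inferInstance
  obtain ⟨U₁, hU₁, huU₁, hU₁r⟩ := exists_isAffineOpen_mem_and_subset (X := U) (x := pt qT)
    (U := (⟨Set.range π, π.isOpenMap.isOpen_range⟩ : U.Opens)) ⟨v, hv⟩
  haveI : IsAffine (U₁ : Scheme.{u}) := hU₁
  haveI : IsLocallyNoetherian (U₁ : Scheme.{u}) := LocallyOfFiniteType.isLocallyNoetherian U₁.ι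
  haveI : IsNoetherian (U₁ : Scheme.{u}) := {}
  let π₁ := π ∣_ U₁
  haveI : IsFinite π₁ := IsZariskiLocalAtTarget.restrict ‹IsFinite π› U₁
  let v₁ : ↑(π ⁻¹ᵁ U₁ : Scheme.{u}) := ⟨v, by show π v ∈ U₁; rw [hv]; exact huU₁⟩
  have hv₁ : π₁ v₁ = ⟨pt qT, huU₁⟩ := U₁.ι.isOpenEmbedding.injective (by
    rw [← Scheme.Hom.comp_apply, morphismRestrict_ι]
    exact hv)
  have huniq₁ : ∀ w w' : ↑(pullback π₁ π₁), (pullback.fst π₁ π₁ ≫ π₁) w = ⟨pt qT, huU₁⟩ →
      (pullback.fst π₁ π₁ ≫ π₁) w' = ⟨pt qT, huU₁⟩ → w = w' := by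
    let q₁ : Spec (.of Ω) ⟶ (U₁ : Scheme.{u}) := IsOpenImmersion.lift U₁.ι qT (by
      rintro _ ⟨z, rfl⟩
      rw [Scheme.Opens.range_ι, EtaleSplit.pt_eq]
      exact huU₁)
    have hq₁ : q₁ ≫ U₁.ι = qT := IsOpenImmersion.lift_fac _ _ _
    have hpt : pt q₁ = ⟨pt qT, huU₁⟩ := U₁.ι.isOpenEmbedding.injective (by
      rw [← EtaleSplit.pt_comp, hq₁]; rfl)
    have hV : ∀ r : GPts π₁ q₁, r.1 ≫ (π ⁻¹ᵁ U₁).ι ≫ V.ι = r₀ := fun r =>
      huniq ⟨r.1 ≫ (π ⁻¹ᵁ U₁).ι ≫ V.ι, by
        simp only [Category.assoc]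
        show r.1 ≫ (π ⁻¹ᵁ U₁).ι ≫ π = qT
        rw [← morphismRestrict_ι, reassoc_of% r.2, hq₁]⟩ (by
        rw [EtaleSplit.pt_comp]
        exact ((π ⁻¹ᵁ U₁).ι (pt r.1)).2)
    have hπ₁ : ∀ r r' : GPts π₁ q₁, r.1 = r'.1 := fun r r' =>
      (cancel_mono ((π ⁻¹ᵁ U₁).ι ≫ V.ι)).1 ((hV r).trans (hV r').symm)
    haveI : LocallyQuasiFinite (pullback.fst π₁ π₁ ≫ π₁) := inferInstance
    intro w w' hw hw'
    obtain ⟨r, hr⟩ := EtaleSplit.exists_gpt (pullback.fst π₁ π₁ ≫ π₁) q₁ w (hw.trans hpt.symm)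
    obtain ⟨r', hr'⟩ := EtaleSplit.exists_gpt (pullback.fst π₁ π₁ ≫ π₁) q₁ w' (hw'.trans hpt.symm)
    rw [← hr, ← hr']
    refine congrArg (fun a => pt a) (pullback.hom_ext ?_ ?_)
    · exact hπ₁ ⟨_, by rw [Category.assoc]; exact r.2⟩ ⟨_, by rw [Category.assoc]; exact r'.2⟩
    · exact hπ₁ ⟨_, by rw [Category.assoc, ← pullback.condition]; exact r.2⟩
        ⟨_, by rw [Category.assoc, ← pullback.condition]; exact r'.2⟩
  obtain ⟨N, huN, hN⟩ := exists_nhd_preconnected π₁ ⟨pt qT, huU₁⟩ v₁ hv₁ huniq₁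
  haveI := hN
  let π₂ := π₁ ∣_ N
  haveI : IsFinite π₂ := IsZariskiLocalAtTarget.restrict ‹IsFinite π₁› N
  haveI : Flat π₁ := IsZariskiLocalAtTarget.restrict ‹Flat π› U₁
  haveI : Flat π₂ := IsZariskiLocalAtTarget.restrict ‹Flat π₁› N
  haveI : Surjective π₂ := ⟨fun n => by
    obtain ⟨a, ha⟩ := hU₁r n.1.2
    have ha' : a ∈ π ⁻¹ᵁ U₁ := by show π a ∈ U₁; rw [ha]; exact n.1.2
    have h1 : π₁ ⟨a, ha'⟩ = n.1 := U₁.ι.isOpenEmbedding.injective (by
      rw [← Scheme.Hom.comp_apply, morphismRestrict_ι]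
      exact ha)
    refine ⟨⟨⟨a, ha'⟩, by show π₁ _ ∈ N; rw [h1]; exact n.2⟩, N.ι.isOpenEmbedding.injective ?_⟩
    rw [← Scheme.Hom.comp_apply, morphismRestrict_ι]
    exact h1⟩
  let fin : (N : Scheme.{u}) ⟶ S := N.ι ≫ U₁.ι ≫ gU
  obtain ⟨e₂⟩ := trivial_comp ((π₁ ⁻¹ᵁ N).ι ≫ (π ⁻¹ᵁ U₁).ι) e₁
  have hcomp : ((π₁ ⁻¹ᵁ N).ι ≫ (π ⁻¹ᵁ U₁).ι) ≫ (k ≫ f) = π₂ ≫ fin := by
    rw [hk]
    simp only [fin, π₂, π₁, morphismRestrict_ι_assoc, Category.assoc]
  rw [hcomp] at e₂
  obtain ⟨e₃⟩ := const_descends π₂ ⟨v₁, show π₁ v₁ ∈ N from hv₁.symm ▸ huN⟩ (Red.bc fin X)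
    (((Over.pullbackComp π₂ fin).app X).symm ≪≫ e₂)
  refine ⟨(N : Scheme.{u}), fin, inferInstance, ⟨⟨⟨pt qT, huU₁⟩, huN⟩, ?_⟩, I, ⟨e₃⟩⟩
  show gU (pt qT) = f t
  rw [← EtaleSplit.pt_comp, hqT, EtaleSplit.pt_comp, hp, Scheme.Hom.comp_apply, hy]
  rfl

end Groth.Agent.TwConst
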