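import Groth.Prelude.Def_TwC
import Groth.Agent.ArtGrpLib.Component
/-!
Base change of constant schemes and comparison of localisations for twisted constant schemes.
-/

set_option autoImplicit false
set_option backward.isDefEq.respectTransparency false
set_option backward.isDefEq.respectTransparency.types false
set_option linter.style.haveILetI false

universe u

open CategoryTheory CategoryTheory.Limits AlgebraicGeometry MonoidalCategory

noncomputable section

namespace Groth.Agent.TwConst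

/-- Base change of a constant scheme. -/
theorem nonempty_constBc {S S' : Scheme.{u}} (k : S' ⟶ S) (I : Type u) :
    Nonempty (Red.bc k (TwC.const S I) ≅ TwC.const S' I) := by
  let d : (∐ fun _ : I => S) ⟶ S := Sigma.desc fun _ => 𝟙 S
  let l : I → (S' ⟶ pullback d k) := fun i => pullback.lift (k ≫ Sigma.ι (fun _ : I => S) i) (𝟙 S') (by simp [d])
  have hl : ∀ i, IsPullback (l i) k (pullback.fst d k) (Sigma.ι (fun _ : I => S) i) := fun i => by
    refine IsPullback.of_right ?_ (pullback.lift_fst _ _ _) (IsPullback.of_hasPullback d k).flip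
    rw [pullback.lift_snd, Sigma.ι_desc]
    exact IsPullback.of_horiz_isIso ⟨by simp⟩
  haveI : ∀ i, IsOpenImmersion (l i) := fun i => MorphismProperty.of_isPullback (hl i).flip inferInstance
  let m : (∐ fun _ : I => S') ⟶ pullback d k := Sigma.desc l
  haveI : IsOpenImmersion m := isOpenImmersion_sigmaDesc _ _ fun i j hij => by
    refine Set.disjoint_left.mpr ?_
    rintro z ⟨a, rfl⟩ ⟨b, hb⟩
    have h := congrArg (pullback.fst d k) hb
    simp only [← Scheme.Hom.comp_apply, l, pullback.lift_fst] at h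
    simp only [Scheme.Hom.comp_apply] at h
    have hd := disjoint_iff.mp (disjoint_opensRange_sigmaι (fun _ : I => S) i j hij)
    have hm : Sigma.ι (fun _ : I => S) i (k a) ∈
        (Sigma.ι (fun _ : I => S) i).opensRange ⊓ (Sigma.ι (fun _ : I => S) j).opensRange :=
      ⟨⟨_, rfl⟩, ⟨k b, h⟩⟩
    rw [hd] at hm
    exact hm
  haveI : Surjective m := ⟨fun z => by
    obtain ⟨⟨i, a⟩, ha⟩ := (sigmaMk fun _ : I => S).surjective (pullback.fst d k z)
    rw [sigmaMk_mk] at ha
    obtain ⟨y, hy, -⟩ := Scheme.exists_preimage_of_isPullback (hl i) z a ha.symm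
    exact ⟨Sigma.ι (fun _ : I => S') i y, by rw [← Scheme.Hom.comp_apply, Sigma.ι_desc, hy]⟩⟩
  haveI : IsIso m := by
    rw [isIso_iff_isOpenImmersion_and_epi_base]
    exact ⟨inferInstance, (TopCat.epi_iff_surjective _).mpr m.surjective⟩
  exact ⟨(Over.isoMk (asIso m) (Sigma.hom_ext _ _ fun i => by
    show Sigma.ι (fun _ : I => S') i ≫ m ≫ pullback.snd d k =
      Sigma.ι (fun _ : I => S') i ≫ Sigma.desc fun _ : I => 𝟙 S'
    rw [Sigma.ι_desc_assoc, Sigma.ι_desc, pullback.lift_snd])).symm⟩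

/-- A trivialisation over a cover restricts to any scheme mapping to the cover. -/
theorem trivial_comp {S S' S'' : Scheme.{u}} {X : Over S} {f : S' ⟶ S} (k : S'' ⟶ S') {I : Type u}
    (e : Red.bc f X ≅ TwC.const S' I) : Nonempty (Red.bc (k ≫ f) X ≅ TwC.const S'' I) := by
  obtain ⟨c⟩ := nonempty_constBc k I
  exact ⟨((Over.pullbackComp k f).app X) ≪≫ (Over.pullback k).mapIso e ≪≫ c⟩

/-- A compact open is the image of a compact open under an open surjection. -/
theorem exists_compact_image {X Y : Scheme.{u}} (f : X ⟶ Y) (ho : IsOpenMap f) (hs : Function.Surjective f)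
    (V : Y.Opens) (hV : IsCompact (V : Set Y)) :
    ∃ W : X.Opens, IsCompact (W : Set X) ∧ f '' (W : Set X) = (V : Set Y) := by
  classical
  obtain ⟨t, ht⟩ := hV.elim_finite_subcover (fun W : {W : X.Opens // IsAffineOpen W ∧ W ≤ f ⁻¹ᵁ V} => f '' (W.1 : Set X))
    (fun W => ho _ W.1.2) (fun y hy => by
      obtain ⟨x, rfl⟩ := hs y
      obtain ⟨W, hW, hxW, hWV⟩ := exists_isAffineOpen_mem_and_subset (X := X) (x := x) (U := f ⁻¹ᵁ V) hy
      exact Set.mem_iUnion.mpr ⟨⟨W, hW, hWV⟩, x, hxW, rfl⟩)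
  refine ⟨⨆ W ∈ t, W.1, ?_, ?_⟩
  · simp only [TopologicalSpace.Opens.coe_iSup]
    exact t.isCompact_biUnion fun W _ => W.2.1.isCompact
  · simp only [TopologicalSpace.Opens.coe_iSup, Set.image_iUnion]
    exact subset_antisymm (Set.iUnion₂_subset fun W _ => by rintro _ ⟨x, hx, rfl⟩; exact W.2.2 hx) ht

/-- A twisted constant scheme for the etale topology is one for the fpqc topology. -/
theorem isTwConst_fpqc_of_etale {S : Scheme.{u}} {X : Over S} (h : TwC.IsTwConst .etale X) :
    TwC.IsTwConst .fpqc X := by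
  choose S' f hf hmem I he using h
  refine ⟨∐ S', Sigma.desc f, ?_, ?_, ?_, ?_⟩
  · exact IsZariskiLocalAtSource.sigmaDesc fun s => haveI := hf s; inferInstance
  · exact ⟨fun s => by
      obtain ⟨a, ha⟩ := hmem s
      exact ⟨Sigma.ι S' s a, by rw [← Scheme.Hom.comp_apply, Sigma.ι_desc, ha]⟩⟩
  · intro V hV
    haveI : Etale (Sigma.desc f) := IsZariskiLocalAtSource.sigmaDesc fun s => hf s
    exact exists_compact_image (Sigma.desc f) (Sigma.desc f).isOpenMap
      (fun x => by
        obtain ⟨a, ha⟩ := hmem x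
        exact ⟨Sigma.ι S' x a, by rw [← Scheme.Hom.comp_apply, Sigma.ι_desc, ha]⟩) V hV.isCompact
  · intro t
    obtain ⟨⟨s, a⟩, ha⟩ := (sigmaMk S').surjective t
    rw [sigmaMk_mk] at ha
    refine ⟨(Sigma.ι S' s).opensRange, ⟨a, ha⟩, I s, ?_⟩
    have hfac : (Sigma.ι S' s).opensRange.ι ≫ Sigma.desc f = (Sigma.ι S' s).isoOpensRange.inv ≫ f s := by
      rw [← Scheme.Hom.isoOpensRange_inv_comp, Category.assoc, Sigma.ι_desc]
    obtain ⟨e⟩ := he s
    rw [hfac]
    exact trivial_comp _ e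

/-- An isotrivial twisted constant group is an isotrivial twisted constant scheme for fpqc. -/
theorem isTwConst_fpqc_of_grp_finiteEtale {S : Scheme.{u}} {X : Over S} [GrpObj X]
    (h : TwC.IsTwConstGrp .finiteEtale X) : TwC.IsTwConst .fpqc X := by
  obtain ⟨S', f, hf, he, hs, hloc⟩ := h
  refine ⟨S', f, inferInstance, hs, fun V hV => ⟨f ⁻¹ᵁ V, QuasiCompact.isCompact_preimage _ V.2 hV.isCompact,
    Set.image_preimage_eq _ hs.surj⟩, fun s' => ?_⟩
  obtain ⟨U, hU, -, M, _, e, -⟩ := hloc s'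
  exact ⟨U, hU, M, ⟨e⟩⟩

/-- Every point of an isotrivial twisted constant group lies in an open and closed subscheme finite over the base. -/
theorem exists_clopen_finite {S : Scheme.{u}} (R : Over S) [GrpObj R] (hR : TwC.IsTwConstGrp .finiteEtale R)
    (x : R.left) : ∃ U : R.left.Opens, x ∈ U ∧ IsClosed (U : Set R.left) ∧ QuasiCompact (U.ι ≫ R.hom) := by
  obtain ⟨S', f, hf, he, hs, hloc⟩ := hR
  obtain ⟨s', hs'⟩ := hs.surj (R.hom x)
  obtain ⟨U, hU, hUc, M, _, e, -⟩ := hloc s'
  let g : (U : Scheme.{u}) ⟶ S := U.ι ≫ f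
  haveI : IsClosedImmersion U.ι := .of_isPreimmersion _ (by rw [Scheme.Opens.range_ι]; exact hUc)
  haveI : IsFinite g := inferInstance
  haveI : IsIso e.hom.left := ((Over.forget _).mapIso e).isIso_hom
  let p : pullback R.hom g ⟶ R.left := pullback.fst _ _
  let q : pullback R.hom g ⟶ ∐ fun _ : M => (U : Scheme.{u}) := e.hom.left
  haveI : IsIso q := ‹IsIso e.hom.left›
  obtain ⟨v, hv, -⟩ := Scheme.Pullback.exists_preimage_pullback (f := R.hom) (g := g) x ⟨s', hU⟩ hs'.symm
  obtain ⟨⟨i, a⟩, ha⟩ := (sigmaMk fun _ : M => (U : Scheme.{u})).surjective (q v)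
  rw [sigmaMk_mk] at ha
  let T : Set ↥(pullback R.hom g) := q ⁻¹' Set.range (Sigma.ι (fun _ : M => (U : Scheme.{u})) i)
  have hTo : IsOpen T := (Sigma.ι (fun _ : M => (U : Scheme.{u})) i).isOpenEmbedding.isOpen_range.preimage q.continuous
  haveI : IsClosedImmersion (Sigma.ι (fun _ : M => (U : Scheme.{u})) i) := .of_isPreimmersion _ (by
    have hc : Set.range (Sigma.ι (fun _ : M => (U : Scheme.{u})) i) =
        (⋃ j ∈ {j | j ≠ i}, Set.range (Sigma.ι (fun _ : M => (U : Scheme.{u})) j))ᶜ := by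
      ext z
      simp only [Set.mem_compl_iff, Set.mem_iUnion, not_exists]
      constructor
      · intro hz j hj hzj
        have hd := disjoint_iff.mp (disjoint_opensRange_sigmaι (fun _ : M => (U : Scheme.{u})) j i hj)
        have hm : z ∈ (Sigma.ι (fun _ : M => (U : Scheme.{u})) j).opensRange ⊓
            (Sigma.ι (fun _ : M => (U : Scheme.{u})) i).opensRange := ⟨hzj, hz⟩
        rw [hd] at hm
        exact hm
      · intro hz
        obtain ⟨⟨j, b⟩, hb⟩ := (sigmaMk fun _ : M => (U : Scheme.{u})).surjective z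
        rw [sigmaMk_mk] at hb
        by_cases hji : j = i
        · subst hji; exact ⟨b, hb⟩
        · exact absurd ⟨b, hb⟩ (hz j hji)
    rw [hc]
    exact (isOpen_biUnion fun j _ => (Sigma.ι (fun _ : M => (U : Scheme.{u})) j).isOpenEmbedding.isOpen_range).isClosed_compl)
  have hTc : IsClosed T := (Sigma.ι (fun _ : M => (U : Scheme.{u})) i).isClosedEmbedding.isClosed_range.preimage q.continuous
  let V : R.left.Opens := ⟨p '' T, p.isOpenMap _ hTo⟩
  refine ⟨V, ⟨v, ⟨a, ha⟩, hv⟩, p.isClosedMap _ hTc, ⟨fun A hAo hAc => ?_⟩⟩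
  have hgA : IsCompact (g ⁻¹' A) := QuasiCompact.isCompact_preimage _ hAo hAc
  have hk : IsCompact (p '' ((inv q) '' (Sigma.ι (fun _ : M => (U : Scheme.{u})) i '' (g ⁻¹' A)))) :=
    ((hgA.image (Scheme.Hom.continuous _)).image (Scheme.Hom.continuous _)).image p.continuous
  rw [V.ι.isOpenEmbedding.isInducing.isCompact_iff]
  convert hk using 1
  have hw : q ≫ Sigma.desc (fun _ : M => 𝟙 (U : Scheme.{u})) = pullback.snd R.hom g := Over.w e.hom
  have hcomm : ∀ b, R.hom (p ((inv q) (Sigma.ι (fun _ : M => (U : Scheme.{u})) i b))) = g b := fun b => by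
    simp only [p, ← Scheme.Hom.comp_apply]
    have h : ((Sigma.ι (fun _ : M => (U : Scheme.{u})) i ≫ inv q) ≫ pullback.fst R.hom g) ≫ R.hom = g := by
      simp only [Category.assoc, pullback.condition, ← hw]
      simp
    rw [h]
  ext z
  constructor
  · rintro ⟨w, hwA, rfl⟩
    obtain ⟨y, hy, hyz⟩ := w.2
    obtain ⟨b, hb⟩ := hy
    have hyb : (inv q) (Sigma.ι (fun _ : M => (U : Scheme.{u})) i b) = y := by
      rw [hb, ← Scheme.Hom.comp_apply, IsIso.hom_inv_id]; rfl
    refine ⟨y, ⟨_, ⟨b, ?_, rfl⟩, hyb⟩, hyz⟩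
    show g b ∈ A
    rw [← hcomm, hyb, hyz]
    exact hwA
  · rintro ⟨_, ⟨_, ⟨b, hb, rfl⟩, rfl⟩, rfl⟩
    refine ⟨⟨_, _, ⟨b, ?_⟩, rfl⟩, ?_, rfl⟩
    · rw [← Scheme.Hom.comp_apply, IsIso.inv_hom_id]; rfl
    · show R.hom (p ((inv q) (Sigma.ι (fun _ : M => (U : Scheme.{u})) i b))) ∈ A
      rw [hcomm]; exact hb

/-- A scheme which becomes a finite disjoint union of copies of the base is quasi-compact over it. -/
theorem quasiCompact_of_finite_charts {S : Scheme.{u}} (A : Over S)
    (h : ∀ s : S, ∃ (S' : Scheme.{u}) (f : S' ⟶ S), Etale f ∧ s ∈ Set.range f.base ∧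
      ∃ I : Type u, (IsEmpty S' ∨ Finite I) ∧ Nonempty (Red.bc f A ≅ TwC.const S' I)) : QuasiCompact A.hom := by
  classical
  refine ⟨fun V hVo hVc => ?_⟩
  choose S' f hf hmem I hI he using h
  have key : ∀ (s : S) (W : (S' s).Opens), IsCompact (W : Set (S' s)) →
      IsCompact (A.hom ⁻¹' (f s '' (W : Set (S' s)))) := fun s W hW => by
    obtain ⟨e⟩ := he s
    haveI : IsIso e.hom.left := ((Over.forget _).mapIso e).isIso_hom
    let q : pullback A.hom (f s) ⟶ ∐ fun _ : I s => S' s := e.hom.left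
    haveI : IsIso q := ‹IsIso e.hom.left›
    have hq : q ≫ Sigma.desc (fun _ : I s => 𝟙 (S' s)) = pullback.snd A.hom (f s) := Over.w e.hom
    have h1 : A.hom ⁻¹' (f s '' (W : Set (S' s))) =
        pullback.fst A.hom (f s) '' (pullback.snd A.hom (f s) ⁻¹' (W : Set (S' s))) := by
      ext a
      constructor
      · rintro ⟨w, hw, hwa⟩
        obtain ⟨z, hz1, hz2⟩ := Scheme.Pullback.exists_preimage_pullback (f := A.hom) (g := f s) a w hwa.symm
        exact ⟨z, by show pullback.snd A.hom (f s) z ∈ W; rw [hz2]; exact hw, hz1⟩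
      · rintro ⟨z, hz, rfl⟩
        exact ⟨_, hz, by rw [← Scheme.Hom.comp_apply, ← pullback.condition, Scheme.Hom.comp_apply]⟩
    rw [h1]
    refine IsCompact.image ?_ (Scheme.Hom.continuous _)
    rcases hI s with hE | hfin
    · haveI : IsEmpty ↥(pullback A.hom (f s)) := Function.isEmpty (pullback.snd A.hom (f s))
      rw [Set.eq_empty_of_isEmpty (pullback.snd A.hom (f s) ⁻¹' (W : Set (S' s)))]
      exact isCompact_empty
    · haveI := hfin
      have h2 : pullback.snd A.hom (f s) ⁻¹' (W : Set (S' s)) =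
          inv q '' ⋃ i, Sigma.ι (fun _ : I s => S' s) i '' (W : Set (S' s)) := by
        ext z
        constructor
        · intro hz
          obtain ⟨⟨i, c⟩, hc⟩ := (sigmaMk fun _ : I s => S' s).surjective (q z)
          rw [sigmaMk_mk] at hc
          refine ⟨q z, Set.mem_iUnion.mpr ⟨i, c, ?_, hc⟩, by rw [← Scheme.Hom.comp_apply, IsIso.hom_inv_id]; rfl⟩
          have : pullback.snd A.hom (f s) z = c := by
            rw [← hq, Scheme.Hom.comp_apply, ← hc, ← Scheme.Hom.comp_apply, Sigma.ι_desc]; rfl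
          rw [← this]; exact hz
        · rintro ⟨_, hm, rfl⟩
          obtain ⟨i, c, hc, rfl⟩ := Set.mem_iUnion.mp hm
          show pullback.snd A.hom (f s) _ ∈ W
          rw [← hq]
          simp only [← Scheme.Hom.comp_apply, Category.assoc, IsIso.inv_hom_id_assoc, Sigma.ι_desc]
          exact hc
      rw [h2]
      exact (isCompact_iUnion fun i => hW.image (Scheme.Hom.continuous _)).image (Scheme.Hom.continuous _)
  have ho : ∀ s, IsOpenMap (f s) := fun s => haveI := hf s; (f s).isOpenMap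
  obtain ⟨t, ht⟩ := hVc.elim_finite_subcover
    (fun p : Σ s : S, {W : (S' s).Opens // IsCompact (W : Set (S' s)) ∧ W ≤ f s ⁻¹ᵁ ⟨V, hVo⟩} =>
      f p.1 '' (p.2.1 : Set (S' p.1)))
    (fun p => ho p.1 _ p.2.1.2) (fun s hs => by
      obtain ⟨a, ha⟩ := hmem s
      obtain ⟨W, hW, haW, hWV⟩ := exists_isAffineOpen_mem_and_subset (X := S' s) (x := a) (U := f s ⁻¹ᵁ ⟨V, hVo⟩)
        (show f s a ∈ V by rw [ha]; exact hs)
      exact Set.mem_iUnion.mpr ⟨⟨s, W, hW.isCompact, hWV⟩, a, haW, ha⟩)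
  have hEq : A.hom ⁻¹' V = ⋃ p ∈ t, A.hom ⁻¹' (f p.1 '' (p.2.1 : Set (S' p.1))) := by
    rw [← Set.preimage_iUnion₂]
    exact congrArg _ (subset_antisymm ht (Set.iUnion₂_subset fun p _ => by rintro _ ⟨a, ha, rfl⟩; exact p.2.2.2 ha))
  rw [hEq]
  exact t.isCompact_biUnion fun p _ => key p.1 p.2.1 p.2.2.1

end Groth.Agent.TwConst
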