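import Groth.Agent.TwConst.Basic
import Groth.Agent.HensBranch.EtaleUp
import Groth.Agent.MagnetHom.Aff
import Groth.Agent.SchDesc.TorsorDesc
import Groth.Agent.FpqcDesc.Basic
import Groth.Agent.S9812
import Groth.Agent.IntImage.Spread
/-!
Quasi-isotrivial twisted constant schemes are separated, etale and satisfy the valuative criterion.
-/

set_option autoImplicit false
set_option backward.isDefEq.respectTransparency false
set_option backward.isDefEq.respectTransparency.types false
set_option linter.style.haveILetI false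

universe u

open CategoryTheory CategoryTheory.Limits AlgebraicGeometry MonoidalCategory
open scoped TensorProduct

noncomputable section

namespace Groth.Agent.TwConst

theorem isClosed_range_ι {U : Scheme.{u}} {I : Type u} (i : I) :
    IsClosed (Set.range (Sigma.ι (fun _ : I => U) i)) := by
  have hc : Set.range (Sigma.ι (fun _ : I => U) i) =
      (⋃ j ∈ {j | j ≠ i}, Set.range (Sigma.ι (fun _ : I => U) j))ᶜ := by
    ext z
    simp only [Set.mem_compl_iff, Set.mem_iUnion, not_exists]
    constructor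
    · intro hz j hj hzj
      have hd := disjoint_iff.mp (disjoint_opensRange_sigmaι (fun _ : I => U) j i hj)
      have hm : z ∈ (Sigma.ι (fun _ : I => U) j).opensRange ⊓ (Sigma.ι (fun _ : I => U) i).opensRange := ⟨hzj, hz⟩
      rw [hd] at hm
      exact hm
    · intro hz
      obtain ⟨⟨j, b⟩, hb⟩ := (sigmaMk fun _ : I => U).surjective z
      rw [sigmaMk_mk] at hb
      by_cases hji : j = i
      · subst hji; exact ⟨b, hb⟩
      · exact absurd ⟨b, hb⟩ (hz j hji)
  rw [hc]
  exact (isOpen_biUnion fun j _ => (Sigma.ι (fun _ : I => U) j).isOpenEmbedding.isOpen_range).isClosed_compl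

/-- A constant scheme is etale and separated over the base. -/
theorem etale_separated_const (U : Scheme.{u}) (I : Type u) :
    Etale (Sigma.desc fun _ : I => 𝟙 U) ∧ IsSeparated (Sigma.desc fun _ : I => 𝟙 U) := by
  let d := Sigma.desc fun _ : I => 𝟙 U
  haveI he : Etale d := IsZariskiLocalAtSource.sigmaDesc fun _ => inferInstance
  refine ⟨he, ?_⟩
  haveI : FormallyUnramified d := inferInstance
  haveI : IsOpenImmersion (pullback.diagonal d) := inferInstance
  refine ⟨.of_isPreimmersion _ ?_⟩
  have key : ∀ i : I, pullback.fst d d ⁻¹' Set.range (Sigma.ι (fun _ : I => U) i) ∩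
      pullback.snd d d ⁻¹' Set.range (Sigma.ι (fun _ : I => U) i) ⊆ Set.range (pullback.diagonal d) := fun i => by
    let m : pullback (𝟙 U) (𝟙 U) ⟶ pullback d d := pullback.map (𝟙 U) (𝟙 U) d d
      (Sigma.ι (fun _ : I => U) i) (Sigma.ι (fun _ : I => U) i) (𝟙 U) (by simp [d]) (by simp [d])
    have hm : m = pullback.fst (𝟙 U) (𝟙 U) ≫ Sigma.ι (fun _ : I => U) i ≫ pullback.diagonal d := by
      apply pullback.hom_ext
      · simp [m]
      · have := pullback.condition (f := 𝟙 U) (g := 𝟙 U)
        simp only [Category.comp_id] at this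
        simp [m, this]
    rw [← Scheme.Pullback.range_map (i₁ := Sigma.ι (fun _ : I => U) i) (i₂ := Sigma.ι (fun _ : I => U) i) (i₃ := 𝟙 U)
      (f' := d) (g' := d) (f := 𝟙 U) (g := 𝟙 U) (by simp [d]) (by simp [d])]
    rintro _ ⟨a, rfl⟩
    change m a ∈ _
    rw [hm]
    exact ⟨_, rfl⟩
  rw [← isOpen_compl_iff, isOpen_iff_forall_mem_open]
  intro z hz
  obtain ⟨⟨i, a⟩, ha⟩ := (sigmaMk fun _ : I => U).surjective (pullback.fst d d z)
  rw [sigmaMk_mk] at ha
  refine ⟨pullback.fst d d ⁻¹' Set.range (Sigma.ι (fun _ : I => U) i) ∩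
    pullback.snd d d ⁻¹' (Set.range (Sigma.ι (fun _ : I => U) i))ᶜ, ?_, ?_, ⟨a, ha⟩, fun h => hz (key i ⟨⟨a, ha⟩, h⟩)⟩
  · rintro w ⟨hw1, hw2⟩ ⟨b, rfl⟩
    refine hw2 ?_
    have h1 : ∀ b, pullback.snd d d (pullback.diagonal d b) = pullback.fst d d (pullback.diagonal d b) := fun b => by
      simp [← Scheme.Hom.comp_apply]
    show pullback.snd d d (pullback.diagonal d b) ∈ Set.range _
    rw [h1]
    exact hw1
  · exact ((Sigma.ι (fun _ : I => U) i).isOpenEmbedding.isOpen_range.preimage (pullback.fst d d).continuous).inter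
      ((isClosed_range_ι i).isOpen_compl.preimage (pullback.snd d d).continuous)

/-- A property descending along fpqc maps and true of constant schemes holds for twisted constant schemes. -/
theorem prop_of_isTwConst (P : MorphismProperty Scheme.{u}) [IsZariskiLocalAtTarget P] [P.IsStableUnderBaseChange]
    (hd : MorphismProperty.DescendsAlong P (@Surjective ⊓ @Flat ⊓ @QuasiCompact : MorphismProperty Scheme.{u}))
    (hc : ∀ (U : Scheme.{u}) (I : Type u), P (Sigma.desc fun _ : I => 𝟙 U))
    {S : Scheme.{u}} (X : Over S) (hX : TwC.IsTwConst .fpqc X) : P X.hom := by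
  obtain ⟨S', f, hf, hs, hW, hloc⟩ := hX
  have hqc : QuasiCompactCover (PreZeroHypercover.singleton.{0} f) := ⟨fun {U} hU => by
    obtain ⟨W, hWc, hWU⟩ := hW U hU
    exact .of_finite (κ := Unit) (fun _ => ⟨⟩) (fun _ => W) (fun _ => hWc) ((Set.iUnion_const _).trans hWU)⟩
  haveI : SchDesc.IsFpqc f := ⟨hf, hs, hqc⟩
  refine TorsorDesc.prop_of_isFpqc P hd X.hom f ?_
  choose U hU I he using hloc
  refine (IsZariskiLocalAtTarget.iff_of_iSup_eq_top (P := P) U
    (top_le_iff.mp fun s _ => TopologicalSpace.Opens.mem_iSup.mpr ⟨s, hU s⟩)).mpr fun s => ?_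
  have hsmall : P (pullback.snd X.hom ((U s).ι ≫ f)) := by
    obtain ⟨e⟩ := he s
    haveI : IsIso e.hom.left := ((Over.forget _).mapIso e).isIso_hom
    have hw : e.hom.left ≫ Sigma.desc (fun _ : I s => 𝟙 (U s : Scheme.{u})) = pullback.snd X.hom ((U s).ι ≫ f) :=
      Over.w e.hom
    rw [← hw]
    exact MorphismProperty.RespectsIso.precomp P e.hom.left _ (hc _ _)
  refine MorphismProperty.RespectsIso.precomp P (pullbackRestrictIsoRestrict _ (U s)).inv _ ?_
  rw [← pullbackLeftPullbackSndIso_hom_snd X.hom f (U s).ι]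
  exact MorphismProperty.RespectsIso.precomp _ _ _ hsmall

theorem isSeparated_of_isTwConst {S : Scheme.{u}} (X : Over S) (hX : TwC.IsTwConst .fpqc X) : IsSeparated X.hom :=
  prop_of_isTwConst (@IsSeparated : MorphismProperty Scheme.{u}) FpqcDesc.isSeparated_descends
    (fun U I => (etale_separated_const U I).2) X hX

theorem etale_of_isTwConst {S : Scheme.{u}} (X : Over S) (hX : TwC.IsTwConst .fpqc X) : Etale X.hom :=
  prop_of_isTwConst (@Etale : MorphismProperty Scheme.{u}) inferInstance
    (fun U I => (etale_separated_const U I).1) X hX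

/-- Existence in the valuative criterion. -/
theorem valuative_existence {S : Scheme.{u}} (X : Over S) (hX : TwC.IsTwConst .etale X) :
    ValuativeCriterion.Existence X.hom := by
  haveI := isSeparated_of_isTwConst X (isTwConst_fpqc_of_etale hX)
  intro sq
  let R := sq.R
  let K := sq.K
  let η : Spec (.of K) ⟶ Spec (.of R) := Spec.map (CommRingCat.ofHom (algebraMap R K))
  have hsq : sq.i₁ ≫ X.hom = η ≫ sq.i₂ := sq.commSq.w
  obtain ⟨S', f, hf, ⟨a, ha⟩, I, ⟨e⟩⟩ := hX (sq.i₂ (IsLocalRing.closedPoint R))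
  haveI := hf
  let W := pullback f sq.i₂
  obtain ⟨b, -, hb⟩ := Scheme.Pullback.exists_preimage_pullback (f := f) (g := sq.i₂) a (IsLocalRing.closedPoint R) ha
  let snd : W ⟶ Spec (.of R) := pullback.snd f sq.i₂
  let L := W.presheaf.stalk b
  let π : Spec L ⟶ Spec (.of R) := W.fromSpecStalk b ≫ snd
  obtain ⟨e'⟩ := trivial_comp (W.fromSpecStalk b ≫ pullback.fst f sq.i₂) e
  have hk : (W.fromSpecStalk b ≫ pullback.fst f sq.i₂) ≫ f = π ≫ sq.i₂ := by
    simp only [π, snd, Category.assoc, pullback.condition]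
  rw [hk] at e'
  -- the local ring is a domain
  haveI hL : IsDomain L := by
    let p : Spec (.of R) := snd b
    letI : Algebra R ((Spec (CommRingCat.of R)).presheaf.stalk p) := StructureSheaf.stalkAlgebra R p
    haveI : IsLocalization.AtPrime ((Spec (CommRingCat.of R)).presheaf.stalk p) p.asIdeal :=
      StructureSheaf.IsLocalization.to_stalk R p
    haveI : IsDomain ((Spec (CommRingCat.of R)).presheaf.stalk p) :=
      IsLocalization.isDomain_of_le_nonZeroDivisors _ p.asIdeal.primeCompl_le_nonZeroDivisors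
    haveI : IsIntegrallyClosed ((Spec (CommRingCat.of R)).presheaf.stalk p) :=
      isIntegrallyClosed_of_isLocalization _ p.asIdeal.primeCompl p.asIdeal.primeCompl_le_nonZeroDivisors
    exact (HensBranch.isDomain_and_isGeomUnibranch_of_etale snd b (Groth.Agent.S9812.result _)).1
  haveI : Flat (W.fromSpecStalk b) := IntImage.flat_fromSpecStalk b
  haveI : Etale snd := inferInstanceAs (Etale (pullback.snd f sq.i₂))
  haveI : Flat π := inferInstance
  haveI : Surjective π := ⟨fun p => by
    have hc : π (IsLocalRing.closedPoint L) = IsLocalRing.closedPoint R := by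
      show snd (W.fromSpecStalk b _) = _
      rw [Scheme.fromSpecStalk_closedPoint]; exact hb
    obtain ⟨p', -, hp'⟩ := Flat.generalizingMap π (a := IsLocalRing.closedPoint L)
      (show p ⤳ π (IsLocalRing.closedPoint L) by rw [hc]; exact IsLocalRing.specializes_closedPoint p)
    exact ⟨p', hp'⟩⟩
  let ei : (∐ fun _ : I => Spec L) ⟶ pullback X.hom (π ≫ sq.i₂) := e'.inv.left
  haveI : IsIso ei := ((Over.forget _).mapIso e'.symm).isIso_hom
  have hei : ei ≫ pullback.snd X.hom (π ≫ sq.i₂) = Sigma.desc fun _ : I => 𝟙 (Spec L) := Over.w e'.inv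
  -- the generic fibre
  let P := pullback η π
  haveI : IsPreimmersion η := IsPreimmersion.of_isLocalization (nonZeroDivisors R)
  haveI : Nonempty P := by
    obtain ⟨p, hp⟩ := π.surjective (η (IsLocalRing.closedPoint K))
    obtain ⟨w, -, -⟩ := Scheme.Pullback.exists_preimage_pullback (f := η) (g := π) (IsLocalRing.closedPoint K) p hp.symm
    exact ⟨w⟩
  haveI : PreconnectedSpace P := by
    refine ⟨?_⟩
    rw [← (pullback.snd η π).isEmbedding.isInducing.isPreconnected_image, Set.image_univ,
      Scheme.Pullback.range_snd]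
    let γ : Spec L := genericPoint (Spec L)
    have hγ : π γ ∈ Set.range η := by
      refine ⟨IsLocalRing.closedPoint K, ?_⟩
      obtain ⟨q, hqγ, hq⟩ := Flat.generalizingMap π (a := γ) (show η (IsLocalRing.closedPoint K) ⤳ π γ from by
        refine (PrimeSpectrum.le_iff_specializes (η (IsLocalRing.closedPoint K)) (π γ)).1 ?_
        intro r hr
        have hr' : algebraMap R K r ∈ (IsLocalRing.closedPoint K).asIdeal := hr
        rw [show (IsLocalRing.closedPoint K).asIdeal = IsLocalRing.maximalIdeal K from rfl,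
          IsLocalRing.maximalIdeal_eq_bot, Ideal.mem_bot] at hr'
        rw [IsFractionRing.injective R K (hr'.trans (map_zero _).symm)]
        exact zero_mem _)
      rw [(hqγ.antisymm (genericPoint_specializes q)).eq] at hq
      exact hq.symm
    refine isPreconnected_singleton.subset_closure (Set.singleton_subset_iff.2 hγ) ?_
    rw [(genericPoint_spec (Spec L)).def]
    exact Set.subset_univ _
  let t : P ⟶ pullback X.hom (π ≫ sq.i₂) := pullback.lift (pullback.fst η π ≫ sq.i₁) (pullback.snd η π)
    (by rw [Category.assoc, hsq, ← Category.assoc, pullback.condition, Category.assoc])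
  let c : P ⟶ ∐ fun _ : I => Spec L := t ≫ inv ei
  have hcd : c ≫ Sigma.desc (fun _ : I => 𝟙 (Spec L)) = pullback.snd η π := by
    simp only [c, ← hei, Category.assoc, IsIso.inv_hom_id_assoc, t, pullback.lift_snd]
  obtain ⟨⟨i, z⟩, hz⟩ := (sigmaMk fun _ : I => Spec L).surjective (c (Classical.arbitrary P))
  rw [sigmaMk_mk] at hz
  have hci : c = pullback.snd η π ≫ Sigma.ι (fun _ : I => Spec L) i := by
    have hu := IsClopen.eq_univ ⟨(isClosed_range_ι i).preimage c.continuous,
      (Sigma.ι (fun _ : I => Spec L) i).isOpenEmbedding.isOpen_range.preimage c.continuous⟩ ⟨_, z, hz⟩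
    have hl := IsOpenImmersion.lift_fac (Sigma.ι (fun _ : I => Spec L) i) c (by
      rintro _ ⟨w, rfl⟩
      exact hu.symm.subset (Set.mem_univ w))
    rw [← hl] at hcd ⊢
    rw [Category.assoc, Sigma.ι_desc, Category.comp_id] at hcd
    rw [hcd]
  let σ' : Spec L ⟶ X.left := Sigma.ι (fun _ : I => Spec L) i ≫ ei ≫ pullback.fst X.hom (π ≫ sq.i₂)
  have hσ' : σ' ≫ X.hom = π ≫ sq.i₂ := by
    simp only [σ', Category.assoc, pullback.condition]
    rw [reassoc_of% hei, Sigma.ι_desc_assoc, Category.id_comp]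
  have hgen : pullback.fst η π ≫ sq.i₁ = pullback.snd η π ≫ σ' := by
    have h := congrArg (fun m => m ≫ ei ≫ pullback.fst X.hom (π ≫ sq.i₂)) hci
    simpa [c, t, σ'] using h
  -- descent
  obtain ⟨φ, hφ⟩ : ∃ φ : CommRingCat.of R ⟶ L, Spec.map φ = π := ⟨Spec.preimage π, Spec.map_preimage π⟩
  letI : Algebra R L := φ.hom.toAlgebra
  haveI : Module.Flat R L := by
    haveI : Flat (Spec.map φ) := by rw [hφ]; infer_instance
    exact HasRingHomProperty.Spec_iff.mp (inferInstance : Flat (Spec.map φ))
  have hπa : Spec.map (CommRingCat.ofHom (algebraMap R L)) = π := hφ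
  let T := (L : Type u) ⊗[R] (L : Type u)
  let inl : Spec (.of T) ⟶ Spec L := Spec.map (CommRingCat.ofHom (Algebra.TensorProduct.includeLeftRingHom : L →+* T))
  let inr : Spec (.of T) ⟶ Spec L :=
    Spec.map (CommRingCat.ofHom (Algebra.TensorProduct.includeRight (R := R) (A := L) (B := L)).toRingHom)
  have hTw : inl ≫ π = inr ≫ π := by
    rw [← hπa, ← Spec.map_comp, ← Spec.map_comp]
    congr 1
    ext r
    exact (Algebra.TensorProduct.includeLeft : L →ₐ[R] T).commutes r |>.trans
      ((Algebra.TensorProduct.includeRight : L →ₐ[R] T).commutes r).symm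
  have hT : inl ≫ σ' = inr ≫ σ' := by
    let j : CommRingCat.of T ⟶ CommRingCat.of (T ⊗[R] K) :=
      CommRingCat.ofHom (Algebra.TensorProduct.includeLeftRingHom : T →+* T ⊗[R] K)
    refine MagnetHom.Spec_ext_of_injective j (Algebra.TensorProduct.includeLeft_injective (S := R) (IsFractionRing.injective R K))
      X.hom ((Category.assoc inl σ' X.hom).trans (((congrArg (inl ≫ ·) hσ').trans (by rw [reassoc_of% hTw])).trans ((congrArg (inr ≫ ·) hσ').symm.trans (Category.assoc inr σ' X.hom).symm))) ?_
    let toK : Spec (.of (T ⊗[R] K)) ⟶ Spec (.of K) :=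
      Spec.map (CommRingCat.ofHom (Algebra.TensorProduct.includeRight (R := R) (A := T) (B := K)).toRingHom)
    have hk2 : ∀ m : Spec (.of T) ⟶ Spec L, m ≫ π = inl ≫ π →
        Spec.map j ≫ m ≫ σ' = toK ≫ sq.i₁ := fun m hm => by
      have hK : toK ≫ η = (Spec.map j ≫ m) ≫ π := by
        rw [Category.assoc, hm, ← hπa]
        simp only [toK, η, inl, j, ← Spec.map_comp]
        congr 1
        ext r
        show (1 : T) ⊗ₜ[R] algebraMap R K r = (algebraMap R L r ⊗ₜ[R] (1 : L)) ⊗ₜ[R] (1 : K)
        simp [Algebra.algebraMap_eq_smul_one, TensorProduct.tmul_smul, TensorProduct.smul_tmul']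
        rfl
      rw [← Category.assoc, ← pullback.lift_snd _ _ hK, Category.assoc, ← hgen, pullback.lift_fst_assoc]
    rw [hk2 inl rfl, hk2 inr hTw.symm]
  haveI : QuasiCompact π := inferInstance
  let σ : Spec (.of R) ⟶ X.left := EffectiveEpi.desc π σ' (fun {Z} g₁ g₂ h => by
    have hh : g₁ ≫ Spec.map (CommRingCat.ofHom (algebraMap R L)) = g₂ ≫ Spec.map (CommRingCat.ofHom (algebraMap R L)) := by
      rw [hπa]; exact h
    let l := pullback.lift g₁ g₂ hh ≫ (pullbackSpecIso R L L).hom
    have h1 : g₁ = l ≫ inl := by simp [l, inl]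
    have h2 : g₂ = l ≫ inr := by simp [l, inr]
    exact (congrArg (· ≫ σ') h1).trans ((Category.assoc l inl σ').trans ((congrArg (l ≫ ·) hT).trans
      ((Category.assoc l inr σ').symm.trans (congrArg (· ≫ σ') h2).symm))))
  have hσ : π ≫ σ = σ' := EffectiveEpi.fac _ _ _
  refine ⟨⟨⟨σ, ?_, ?_⟩⟩⟩
  · haveI : Flat (pullback.fst η π) := inferInstance
    haveI : Surjective (pullback.fst η π) := inferInstance
    rw [← cancel_epi (pullback.fst η π), hgen, pullback.condition_assoc, hσ]
  · rw [← cancel_epi π, reassoc_of% hσ, hσ']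

end Groth.Agent.TwConst
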