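import Groth.Agent.TwConst.Valuative
import Groth.Agent.HensBranch.EtaleUp
/-!
Twisted constant schemes over irreducible geometrically unibranch schemes: the decomposition by generic points.
-/

set_option autoImplicit false
set_option backward.isDefEq.respectTransparency false
set_option backward.isDefEq.respectTransparency.types false
set_option linter.style.haveILetI false

universe u

open CategoryTheory CategoryTheory.Limits AlgebraicGeometry

noncomputable section

namespace Groth.Agent.TwConst

/-- An affine open lying over an affine open meets each fibre of a quasi-finite morphism in finitely many points. -/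
theorem finite_fibre_inter_affine {Y S : Scheme.{u}} (g : Y ⟶ S) [LocallyQuasiFinite g] {V : Y.Opens}
    (hV : IsAffineOpen V) {A : S.Opens} (hA : IsAffineOpen A) (h : (V : Set Y) ⊆ (g ⁻¹ᵁ A : Y.Opens)) (a : S) :
    ((V : Set Y) ∩ g ⁻¹' {a}).Finite := by
  haveI : IsAffine (V : Scheme.{u}) := hV
  haveI : IsAffine (A : Scheme.{u}) := hA
  let k : (V : Scheme.{u}) ⟶ A := g.resLE A V h
  haveI : LocallyQuasiFinite (k ≫ A.ι) := by rw [Scheme.Hom.resLE_comp_ι]; infer_instance
  haveI : LocallyQuasiFinite k := LocallyQuasiFinite.of_comp k A.ι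
  by_cases ha : a ∈ A
  · refine ((k.finite_preimage_singleton ⟨a, ha⟩).image V.ι).subset ?_
    rintro y ⟨hy, hya⟩
    refine ⟨⟨y, hy⟩, Subtype.ext ?_, rfl⟩
    show A.ι (k ⟨y, hy⟩) = a
    rw [← Scheme.Hom.comp_apply, Scheme.Hom.resLE_comp_ι]
    exact hya
  · refine Set.Finite.subset Set.finite_empty fun y hy => ha ?_
    rw [← (show g y = a from hy.2)]
    exact h hy.1

variable {S : Scheme.{u}} [IrreducibleSpace S]

/-- Two points of the generic fibre of a locally quasi-finite morphism are incomparable. -/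
theorem generic_eq_of_specializes {Y : Scheme.{u}} (g : Y ⟶ S) [LocallyQuasiFinite g] {a b : Y}
    (h : a ⤳ b) (hb : g b = genericPoint S) : a = b := by
  have ha : g a = genericPoint S :=
    ((genericPoint_specializes (g a)).antisymm ((h.map g.continuous).trans (specializes_of_eq hb))).eq.symm
  haveI := isDiscrete_iff_discreteTopology.mp (g.isDiscrete_preimage_singleton (genericPoint S))
  exact congrArg Subtype.val (specializes_iff_eq.mp
    ((Topology.IsInducing.subtypeVal).specializes_iff (x := (⟨a, ha⟩ : ↥(g ⁻¹' {genericPoint S})))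
      (y := ⟨b, hb⟩) |>.1 h))

/-- Every point has a unique generization in the generic fibre. -/
theorem existsUnique_generic (hS : ∀ s : S, CAlg2.IsGeomUnibranch (S.presheaf.stalk s))
    {Y : Scheme.{u}} (g : Y ⟶ S) [Etale g] (y : Y) :
    ∃! l : Y, g l = genericPoint S ∧ l ⤳ y := by
  haveI := Unibranch.locallyQuasiFinite_of_etale g
  obtain ⟨l, hl, hgl⟩ := Flat.generalizingMap g (genericPoint_specializes (g y))
  refine ⟨l, ⟨hgl, hl⟩, fun l' ⟨hgl', hl'⟩ => ?_⟩
  have hu := HensBranch.isGeomUnibranch_of_etale g y (hS _)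
  haveI : IsDomain (CAlg2.red (Y.presheaf.stalk y)) := hu.1.1
  haveI : IrreducibleSpace (Spec (Y.presheaf.stalk y)) :=
    PrimeSpectrum.irreducibleSpace_iff_isPrime_nilradical.2 ((Ideal.Quotient.isDomain_iff_prime _).1 this)
  obtain ⟨p, rfl⟩ : l ∈ Set.range (Y.fromSpecStalk y) := by rw [Scheme.range_fromSpecStalk]; exact hl
  obtain ⟨p', rfl⟩ : l' ∈ Set.range (Y.fromSpecStalk y) := by rw [Scheme.range_fromSpecStalk]; exact hl'
  rw [← generic_eq_of_specializes g ((genericPoint_specializes p).map (Y.fromSpecStalk y).continuous) hgl,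
    ← generic_eq_of_specializes g ((genericPoint_specializes p').map (Y.fromSpecStalk y).continuous) hgl']

/-- The closures of the points of the generic fibre are open. -/
theorem isOpen_closure_generic (hS : ∀ s : S, CAlg2.IsGeomUnibranch (S.presheaf.stalk s))
    {Y : Scheme.{u}} (g : Y ⟶ S) [Etale g] (l : Y) (hl : g l = genericPoint S) :
    IsOpen (closure ({l} : Set Y)) := by
  haveI := Unibranch.locallyQuasiFinite_of_etale g
  rw [isOpen_iff_forall_mem_open]
  intro y hy
  obtain ⟨A, hA, hyA, -⟩ := exists_isAffineOpen_mem_and_subset (U := ⊤) (x := g y) trivial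
  obtain ⟨V, hV, hyV, hVA⟩ := exists_isAffineOpen_mem_and_subset (U := g ⁻¹ᵁ A) (x := y) hyA
  let T : Set Y := {m | m ∈ V ∧ g m = genericPoint S ∧ m ≠ l}
  have hT : T.Finite := (finite_fibre_inter_affine g hV hA hVA (genericPoint S)).subset
    fun m hm => ⟨hm.1, hm.2.1⟩
  refine ⟨(V : Set Y) \ ⋃ m ∈ T, closure {m}, ?_, V.2.sdiff (hT.isClosed_biUnion fun _ _ => isClosed_closure),
    hyV, ?_⟩
  · rintro z ⟨hzV, hz⟩
    obtain ⟨m, ⟨hgm, hmz⟩, -⟩ := existsUnique_generic hS g z
    by_contra hne
    refine hz (Set.mem_biUnion ⟨hmz.mem_open V.2 hzV, hgm, fun h => hne ?_⟩ hmz.mem_closure)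
    exact h ▸ hmz.mem_closure
  · simp only [Set.mem_iUnion, not_exists]
    rintro m ⟨hm1, hm2, hm3⟩ hym
    exact hm3 ((existsUnique_generic hS g y).unique ⟨hm2, specializes_iff_mem_closure.2 hym⟩
      ⟨hl, specializes_iff_mem_closure.2 hy⟩)


namespace Gen

variable (hS : ∀ s : S, CAlg2.IsGeomUnibranch (S.presheaf.stalk s))
  (X : Over S) (hX : TwC.IsTwConst TwC.Topology.etale X)

include hS hX in
/-- The closure of a point of the generic fibre of a twisted constant scheme is a finite etale cover. -/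
theorem exists_cover (l : X.left) (hl : X.hom l = genericPoint S) :
    ∃ U : X.left.Opens, (U : Set X.left) = closure ({l} : Set X.left) ∧ IsClosed (U : Set X.left) ∧
      IsFinite (U.ι ≫ X.hom) ∧ Etale (U.ι ≫ X.hom) ∧ Surjective (U.ι ≫ X.hom) := by
  classical
  haveI := isSeparated_of_isTwConst X (isTwConst_fpqc_of_etale hX)
  haveI := etale_of_isTwConst X (isTwConst_fpqc_of_etale hX)
  haveI := Unibranch.locallyQuasiFinite_of_etale X.hom
  let U : X.left.Opens := ⟨closure {l}, isOpen_closure_generic hS X.hom l hl⟩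
  have hc : IsClosed (U : Set X.left) := isClosed_closure
  haveI : Etale (U.ι ≫ X.hom) := inferInstance
  -- the charts
  have chart : ∀ (B : S.Opens) (s : S), s ∈ B → ∃ (N : Set S), IsOpen N ∧ s ∈ N ∧ N ⊆ (B : Set S) ∧
      IsCompact ((U : Set X.left) ∩ X.hom ⁻¹' N) ∧ N ⊆ X.hom '' (U : Set X.left) ∪ {t | IsEmpty S} := by
    intro B s hsB
    obtain ⟨A, hA, hsA, hAB⟩ := exists_isAffineOpen_mem_and_subset (U := B) (x := s) hsB
    obtain ⟨S', f, hf, ⟨a, ha⟩, I, ⟨e⟩⟩ := hX s
    haveI := hf
    obtain ⟨γ, ⟨hγ, hγa⟩, -⟩ := existsUnique_generic hS f a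
    let C : S'.Opens := ⟨closure {γ}, isOpen_closure_generic hS f γ hγ⟩
    obtain ⟨V, hV, haV, hVle⟩ := exists_isAffineOpen_mem_and_subset (U := C ⊓ f ⁻¹ᵁ A) (x := a)
      ⟨hγa.mem_closure, show f a ∈ A by rw [ha]; exact hsA⟩
    haveI : IsAffine (V : Scheme.{u}) := hV
    let γ' : (V : Scheme.{u}) := ⟨γ, hγa.mem_open V.2 haV⟩
    have hγ' : ∀ c : (V : Scheme.{u}), γ' ⤳ c := fun c =>
      Topology.IsInducing.subtypeVal.specializes_iff.1 (specializes_iff_mem_closure.2 (hVle c.2).1)
    let g : (V : Scheme.{u}) ⟶ S := V.ι ≫ f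
    obtain ⟨e₀⟩ := trivial_comp V.ι e
    haveI : IsIso e₀.hom.left := ((Over.forget _).mapIso e₀).isIso_hom
    let e' : pullback X.hom g ⟶ ∐ fun _ : I => (V : Scheme.{u}) := e₀.hom.left
    haveI : IsIso e' := ‹IsIso e₀.hom.left›
    have hw : e' ≫ Sigma.desc (fun _ : I => 𝟙 (V : Scheme.{u})) = pullback.snd X.hom g := Over.w e₀.hom
    let z : I → ((V : Scheme.{u}) ⟶ pullback X.hom g) := fun i => Sigma.ι (fun _ : I => (V : Scheme.{u})) i ≫ inv e'
    let k : I → ((V : Scheme.{u}) ⟶ X.left) := fun i => z i ≫ pullback.fst X.hom g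
    have hzs : ∀ i, z i ≫ pullback.snd X.hom g = 𝟙 _ := fun i => by simp [z, ← hw]
    have hk : ∀ i, k i ≫ X.hom = g := fun i => by
      simp only [k, Category.assoc, pullback.condition]
      rw [reassoc_of% hzs i]
    let J : Set I := {i | k i γ' = l}
    have hJ : J.Finite := by
      obtain ⟨W, hW, hlW, hWA⟩ := exists_isAffineOpen_mem_and_subset (U := X.hom ⁻¹ᵁ A) (x := l)
        (show X.hom l ∈ A by rw [hl]; exact (genericPoint_specializes s).mem_open A.2 hsA)
      haveI : IsAffine (W : Scheme.{u}) := hW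
      haveI : IsAffine (A : Scheme.{u}) := hA
      let gA : (V : Scheme.{u}) ⟶ A := f.resLE A V (fun c hc => (hVle hc).2)
      let m := pullback.map (X.hom.resLE A W hWA) gA X.hom g W.ι (𝟙 _) A.ι (Scheme.Hom.resLE_comp_ι _ _)
        (by simp [gA, g, Scheme.Hom.resLE_comp_ι])
      have hm : Set.range m = pullback.fst X.hom g ⁻¹' (W : Set X.left) := by
        refine (Scheme.Pullback.range_map (e₁ := _) (e₂ := _)).trans ?_
        simp
      haveI : IsAffine (pullback (X.hom.resLE A W hWA) gA) := inferInstance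
      haveI : IsOpenImmersion m := inferInstance
      have hmA : IsAffineOpen m.opensRange := isAffineOpen_opensRange m
      haveI := Unibranch.locallyQuasiFinite_of_etale (pullback.fst X.hom g)
      have hfin := finite_fibre_inter_affine (pullback.fst X.hom g) hmA hW (fun x hx => by
        have : x ∈ Set.range m := hx
        rw [hm] at this; exact this) l
      refine Set.Finite.of_finite_image (f := fun i => z i γ') (hfin.subset ?_) ?_
      · rintro _ ⟨i, hi, rfl⟩
        refine ⟨?_, show pullback.fst X.hom g (z i γ') = l by rw [← Scheme.Hom.comp_apply]; exact hi⟩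
        show z i γ' ∈ Set.range m
        rw [hm]
        show pullback.fst X.hom g (z i γ') ∈ W
        rw [← Scheme.Hom.comp_apply]
        exact (hi : k i γ' = l) ▸ hlW
      · intro i _ j _ hij
        have h' : sigmaMk (fun _ : I => (V : Scheme.{u})) ⟨i, γ'⟩ = sigmaMk (fun _ : I => (V : Scheme.{u})) ⟨j, γ'⟩ := by
          rw [sigmaMk_mk, sigmaMk_mk]
          have := congrArg e' hij
          simp only [z, ← Scheme.Hom.comp_apply, Category.assoc, IsIso.inv_hom_id, Category.comp_id] at this
          exact this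
        exact congrArg Sigma.fst ((sigmaMk fun _ : I => (V : Scheme.{u})).injective h')
    have hcomp : ∀ (y : X.left) (c : (V : Scheme.{u})), X.hom y = g c → ∃ i, k i c = y := fun y c hyc => by
      obtain ⟨w, hw1, hw2⟩ := Scheme.Pullback.exists_preimage_pullback (f := X.hom) (g := g) y c hyc
      obtain ⟨⟨i, d⟩, hd⟩ := (sigmaMk fun _ : I => (V : Scheme.{u})).surjective (e' w)
      rw [sigmaMk_mk] at hd
      have hdc : d = c := by
        rw [← hw2, ← hw, Scheme.Hom.comp_apply, ← hd, ← Scheme.Hom.comp_apply, Sigma.ι_desc]; rfl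
      refine ⟨i, ?_⟩
      rw [← hdc]
      simp only [k, z, Scheme.Hom.comp_apply]
      rw [hd, ← Scheme.Hom.comp_apply e' (inv e'), IsIso.hom_inv_id]
      exact hw1
    have hkγ : ∀ i, X.hom (k i γ') = genericPoint S := fun i => by
      rw [← Scheme.Hom.comp_apply, hk]; exact hγ
    have hset : (U : Set X.left) ∩ X.hom ⁻¹' Set.range g = ⋃ i ∈ J, Set.range (k i) := by
      ext y
      simp only [Set.mem_inter_iff, Set.mem_preimage, Set.mem_range, Set.mem_iUnion]
      constructor
      · rintro ⟨hy, c, hc⟩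
        obtain ⟨i, hi⟩ := hcomp y c hc.symm
        refine ⟨i, ?_, c, hi⟩
        exact (existsUnique_generic hS X.hom y).unique
          ⟨hkγ i, hi ▸ (hγ' c).map (k i).continuous⟩ ⟨hl, specializes_iff_mem_closure.2 hy⟩
      · rintro ⟨i, hi, c, rfl⟩
        exact ⟨((specializes_of_eq (hi : k i γ' = l).symm).trans ((hγ' c).map (k i).continuous)).mem_closure,
          c, by rw [← Scheme.Hom.comp_apply, hk]⟩
    refine ⟨Set.range g, g.isOpenMap.isOpen_range, ⟨⟨a, haV⟩, ha⟩, ?_, ?_, ?_⟩
    · rintro _ ⟨c, rfl⟩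
      exact hAB (hVle c.2).2
    · rw [hset]
      exact hJ.isCompact_biUnion fun i _ => isCompact_range (k i).continuous
    · rintro _ ⟨c, rfl⟩
      obtain ⟨i, hi⟩ := hcomp l γ' (hl.trans hγ.symm)
      exact .inl ⟨k i c, ((specializes_of_eq hi.symm).trans ((hγ' c).map (k i).continuous)).mem_closure,
        by rw [← Scheme.Hom.comp_apply, hk]⟩
  haveI : QuasiCompact (U.ι ≫ X.hom) := by
    refine ⟨fun B hBo hBc => ?_⟩
    choose N hN hsN hNB hcpt hN' using fun s : B => chart ⟨B, hBo⟩ s.1 s.2
    obtain ⟨t, ht⟩ := hBc.elim_finite_subcover N hN (fun s hs => Set.mem_iUnion.2 ⟨⟨s, hs⟩, hsN ⟨s, hs⟩⟩)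
    have hEq : (U : Set X.left) ∩ X.hom ⁻¹' B = ⋃ s ∈ t, (U : Set X.left) ∩ X.hom ⁻¹' N s := by
      rw [← Set.inter_iUnion₂, ← Set.preimage_iUnion₂]
      exact congrArg (fun M => (U : Set X.left) ∩ X.hom ⁻¹' M)
        (subset_antisymm ht (Set.iUnion₂_subset fun s _ => hNB s))
    rw [U.ι.isOpenEmbedding.isInducing.isCompact_iff]
    have himg : U.ι '' ((U.ι ≫ X.hom) ⁻¹' B) = (U : Set X.left) ∩ X.hom ⁻¹' B := by
      ext y; constructor
      · rintro ⟨w, hw, rfl⟩; exact ⟨w.2, hw⟩
      · rintro ⟨hy, hyB⟩; exact ⟨⟨y, hy⟩, hyB, rfl⟩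
    rw [himg, hEq]
    exact t.isCompact_biUnion fun s _ => hcpt s
  have hex : ValuativeCriterion.Existence (U.ι ≫ X.hom) := by
    intro sq
    obtain ⟨L, hL1, hL2⟩ := (valuative_existence X hX
      { R := sq.R, K := sq.K, i₁ := sq.i₁ ≫ U.ι, i₂ := sq.i₂,
        commSq := ⟨by rw [Category.assoc]; exact sq.commSq.w⟩ }).exists_lift
    dsimp only at hL1 hL2
    have hr : Set.range L ⊆ Set.range U.ι := by
      rw [Scheme.Opens.range_ι]
      rintro _ ⟨p, rfl⟩
      let η' : Spec (CommRingCat.of sq.R) := Spec.map (CommRingCat.ofHom (algebraMap sq.R sq.K)) (IsLocalRing.closedPoint sq.K)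
      have hη' : η' ⤳ p := (PrimeSpectrum.le_iff_specializes η' p).1 fun r hr => by
        have hr' : algebraMap sq.R sq.K r ∈ (IsLocalRing.closedPoint sq.K).asIdeal := hr
        rw [show (IsLocalRing.closedPoint sq.K).asIdeal = IsLocalRing.maximalIdeal sq.K from rfl,
          IsLocalRing.maximalIdeal_eq_bot, Ideal.mem_bot] at hr'
        rw [IsFractionRing.injective sq.R sq.K (hr'.trans (map_zero _).symm)]
        exact zero_mem _
      refine (hη'.map L.continuous).mem_closed hc ?_
      have hLη : L η' = U.ι (sq.i₁ (IsLocalRing.closedPoint sq.K)) :=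
        congrArg (fun φ : Spec (CommRingCat.of sq.K) ⟶ X.left => φ.base (IsLocalRing.closedPoint sq.K)) hL1
      rw [hLη]
      exact (sq.i₁ (IsLocalRing.closedPoint sq.K)).2
    exact ⟨⟨⟨IsOpenImmersion.lift U.ι L hr,
      by rw [← cancel_mono U.ι, Category.assoc, IsOpenImmersion.lift_fac]; exact hL1,
      by rw [← Category.assoc, IsOpenImmersion.lift_fac]; exact hL2⟩⟩⟩
  haveI := UniversallyClosed.of_valuativeCriterion (U.ι ≫ X.hom) hex
  haveI := Unibranch.locallyQuasiFinite_of_etale (U.ι ≫ X.hom)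
  haveI : IsProper (U.ι ≫ X.hom) := {}
  refine ⟨U, rfl, hc, IsFinite.of_isProper_of_locallyQuasiFinite _, inferInstance, ⟨fun s => ?_⟩⟩
  obtain ⟨N, -, hsN, -, -, hN⟩ := chart ⊤ s trivial
  rcases hN hsN with ⟨y, hy, rfl⟩ | h
  · exact ⟨⟨y, hy⟩, rfl⟩
  · exact h.elim s

include hS hX in
/-- Sections over an irreducible unibranch scheme extend from the generic point. -/
theorem exists_section (τ : Spec (S.residueField (genericPoint S)) ⟶ X.left)
    (hτ : τ ≫ X.hom = S.fromSpecResidueField (genericPoint S)) :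
    ∃ σ : S ⟶ X.left, σ ≫ X.hom = 𝟙 S ∧ S.fromSpecResidueField (genericPoint S) ≫ σ = τ := by
  let η := genericPoint S
  let K₀ : Type u := S.residueField η
  let τ' : Spec (CommRingCat.of K₀) ⟶ X.left := τ
  let l := τ' (IsLocalRing.closedPoint K₀)
  have hl : X.hom l = η :=
    (congrArg (fun φ : Spec (CommRingCat.of K₀) ⟶ S => φ.base (IsLocalRing.closedPoint K₀)) hτ).trans
      (Scheme.fromSpecResidueField_apply (X := S) η _)
  obtain ⟨U, hU, -, hfin, het, hsurj⟩ := exists_cover hS X hX l hl
  haveI := hfin; haveI := het; haveI := hsurj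
  haveI := etale_of_isTwConst X (isTwConst_fpqc_of_etale hX)
  haveI := Unibranch.locallyQuasiFinite_of_etale X.hom
  let j : X.left.residueField l ⟶ S.residueField η :=
    X.left.descResidueField (Scheme.stalkClosedPointTo τ')
  have hj : Spec.map j ≫ X.left.fromSpecResidueField l = τ :=
    Scheme.descResidueField_stalkClosedPointTo_fromSpecResidueField K₀ X.left τ'
  -- the residue extension is trivial
  haveI : IsIso j := by
    let i : S.residueField η ⟶ X.left.residueField l := (S.residueFieldCongr hl).inv ≫ X.hom.residueFieldMap l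
    have hij : Spec.map j ≫ Spec.map i ≫ S.fromSpecResidueField η = S.fromSpecResidueField η := by
      rw [Spec.map_comp, Category.assoc]
      rw [show Spec.map (S.residueFieldCongr hl).inv ≫ S.fromSpecResidueField η =
        S.fromSpecResidueField (X.hom l) by rw [Scheme.residueFieldCongr_inv, Scheme.residueFieldCongr_fromSpecResidueField],
        Scheme.Hom.SpecMap_residueFieldMap_fromSpecResidueField, ← Category.assoc, hj, hτ]
    have hid : i ≫ j = 𝟙 _ := by
      apply Spec.map_injective
      rw [Spec.map_comp, Spec.map_id, ← cancel_mono (S.fromSpecResidueField η), Category.assoc, Category.id_comp]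
      exact hij
    refine (ConcreteCategory.isIso_iff_bijective j).2 ⟨j.hom.injective, fun x => ⟨i x, ?_⟩⟩
    exact congr($(hid).hom x)
  have key : ∀ {K : Type u} [Field K] (a b : Spec (CommRingCat.of K) ⟶ X.left),
      a (IsLocalRing.closedPoint K) = l → b (IsLocalRing.closedPoint K) = l → a ≫ X.hom = b ≫ X.hom → a = b := by
    intro K _ a b ha hb hab
    have h : ∀ c : Spec (CommRingCat.of K) ⟶ X.left, c (IsLocalRing.closedPoint K) = l → ∃ d, d ≫ τ = c := fun c hc => by
      refine ⟨Spec.map ((X.left.residueFieldCongr hc).inv ≫ X.left.descResidueField (Scheme.stalkClosedPointTo c))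
        ≫ inv (Spec.map j), ?_⟩
      rw [← hj, Category.assoc, IsIso.inv_hom_id_assoc, Spec.map_comp, Category.assoc,
        Scheme.residueFieldCongr_inv, Scheme.residueFieldCongr_fromSpecResidueField]
      exact Scheme.descResidueField_stalkClosedPointTo_fromSpecResidueField K X.left c
    obtain ⟨da, rfl⟩ := h a ha
    obtain ⟨db, rfl⟩ := h b hb
    rw [Category.assoc, Category.assoc, hτ, cancel_mono] at hab
    rw [hab]
  let π := U.ι ≫ X.hom
  haveI : Surjective (pullback.diagonal π) := ⟨fun z => by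
    obtain ⟨z₀, hz₀, hgz₀⟩ := Flat.generalizingMap (pullback.fst π π ≫ π) (genericPoint_specializes _)
      (a := z)
    have hpt : ∀ w : U, π w = η → U.ι w = l := fun w hw =>
      (existsUnique_generic hS X.hom (U.ι w)).unique ⟨hw, specializes_rfl⟩
        ⟨hl, specializes_iff_mem_closure.2 (hU ▸ w.2)⟩
    let P := pullback π π
    let c := P.fromSpecResidueField z₀
    have he : c ≫ pullback.fst π π = c ≫ pullback.snd π π := by
      rw [← cancel_mono U.ι]
      refine key _ _ ?_ ?_ ?_
      · simp only [Scheme.Hom.comp_apply, c, Scheme.fromSpecResidueField_apply]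
        exact hpt _ (by
          rw [← Scheme.Hom.comp_apply]
          exact (congrArg (pullback.fst π π ≫ π).base (Scheme.fromSpecResidueField_apply (X := P) z₀ _)).trans hgz₀)
      · simp only [Scheme.Hom.comp_apply, c, Scheme.fromSpecResidueField_apply]
        refine hpt _ ?_
        rw [← Scheme.Hom.comp_apply, ← pullback.condition]
        exact (congrArg (pullback.fst π π ≫ π).base (Scheme.fromSpecResidueField_apply (X := P) z₀ _)).trans hgz₀
      · simp only [Category.assoc]
        rw [← pullback.condition]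
    have hmem : z₀ ∈ Set.range (pullback.diagonal π) := by
      refine ⟨(c ≫ pullback.fst π π) (IsLocalRing.closedPoint _), ?_⟩
      rw [← Scheme.Hom.comp_apply, show (c ≫ pullback.fst π π) ≫ pullback.diagonal π = c from
        pullback.hom_ext (by simp) (by simp [he])]
      exact Scheme.fromSpecResidueField_apply _ _
    exact hz₀.mem_closed (pullback.diagonal π).isClosedEmbedding.isClosed_range hmem⟩
  haveI : IsIso (pullback.diagonal π) := isIso_of_isOpenImmersion_of_opensRange_eq_top _ (by
    ext t; simpa using (pullback.diagonal π).surjective t)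
  haveI : Mono π := pullback.isIso_diagonal_iff _ |>.1 inferInstance
  haveI : IsOpenImmersion π := IsOpenImmersion.of_flat_of_mono π
  haveI : IsIso π := isIso_of_isOpenImmersion_of_opensRange_eq_top _ (by
    ext t; simpa using π.surjective t)
  have hσ : (inv π ≫ U.ι) ≫ X.hom = 𝟙 S := by rw [Category.assoc]; exact IsIso.inv_hom_id π
  refine ⟨inv π ≫ U.ι, hσ, key _ _ ?_ rfl (by rw [Category.assoc, hσ, Category.comp_id, hτ])⟩
  have h0 : ((S.fromSpecResidueField η ≫ inv π ≫ U.ι : Spec (CommRingCat.of K₀) ⟶ X.left)).base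
      (IsLocalRing.closedPoint K₀) = (inv π ≫ U.ι) η :=
    congrArg (inv π ≫ U.ι).base (Scheme.fromSpecResidueField_apply (X := S) η _)
  refine h0.trans ?_
  refine (existsUnique_generic hS X.hom ((inv π ≫ U.ι) η)).unique ⟨?_, specializes_rfl⟩
    ⟨hl, specializes_iff_mem_closure.2 (hU ▸ ((inv π) η).2)⟩
  rw [← Scheme.Hom.comp_apply, hσ]; rfl

/-- Sections agreeing at the generic point agree. -/
theorem section_unique [IsSeparated X.hom] [Etale X.hom] (σ₁ σ₂ : S ⟶ X.left)
    (h₁ : σ₁ ≫ X.hom = 𝟙 S) (h₂ : σ₂ ≫ X.hom = 𝟙 S)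
    (h : S.fromSpecResidueField (genericPoint S) ≫ σ₁ = S.fromSpecResidueField (genericPoint S) ≫ σ₂) :
    σ₁ = σ₂ := by
  let c := S.fromSpecResidueField (genericPoint S)
  let g := pullback.lift σ₁ σ₂ (by rw [h₁, h₂] : σ₁ ≫ X.hom = σ₂ ≫ X.hom)
  let a := pullback.fst g (pullback.diagonal X.hom)
  haveI : Surjective a := ⟨fun t => by
    have hw : c ≫ g = (c ≫ σ₁) ≫ pullback.diagonal X.hom := by
      apply pullback.hom_ext <;> simp [g, c, h]
    have hmem : genericPoint S ∈ Set.range a := by
      refine ⟨pullback.lift c (c ≫ σ₁) hw (IsLocalRing.closedPoint _), ?_⟩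
      rw [← Scheme.Hom.comp_apply, pullback.lift_fst]
      exact Scheme.fromSpecResidueField_apply _ _
    exact (genericPoint_specializes t).mem_closed a.isClosedEmbedding.isClosed_range hmem⟩
  haveI : IsIso a := isIso_of_isOpenImmersion_of_opensRange_eq_top _ (by
    ext t; simpa using a.surjective t)
  have hc : g = (inv a ≫ pullback.snd g (pullback.diagonal X.hom)) ≫ pullback.diagonal X.hom := by
    rw [Category.assoc, ← pullback.condition, IsIso.inv_hom_id_assoc]
  have e₁ := congrArg (fun k => k ≫ pullback.fst X.hom X.hom) hc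
  have e₂ := congrArg (fun k => k ≫ pullback.snd X.hom X.hom) hc
  simp only [g, pullback.lift_fst, pullback.lift_snd, Category.assoc, pullback.diagonal_fst,
    pullback.diagonal_snd, Category.comp_id] at e₁ e₂
  exact e₁.trans e₂.symm

end Gen

end Groth.Agent.TwConst
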