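import Groth.Agent.TwConst.Valuative
import Groth.Agent.Hensel.QuasiFinite
import Groth.Agent.Hensel.Sections
/-!
Etale separated schemes and twisted constant schemes over henselian local rings.
-/

set_option autoImplicit false
set_option backward.isDefEq.respectTransparency false
set_option backward.isDefEq.respectTransparency.types false
set_option linter.style.haveILetI false

universe u

open CategoryTheory CategoryTheory.Limits AlgebraicGeometry IsLocalRing

noncomputable section

namespace Groth.Agent.TwConst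

variable {R : Type u} [CommRing R] [HenselianLocalRing R]

/-- Over a henselian local ring the local scheme at a point over the closed point is open and finite. -/
theorem fromSpecStalk_open_finite {X : Scheme.{u}} (f : X ⟶ Spec (CommRingCat.of R)) [Etale f]
    (x : X) (hx : f.base x = closedPoint R) :
    IsOpenImmersion (X.fromSpecStalk x) ∧ IsFinite (X.fromSpecStalk x ≫ f) := by
  obtain ⟨U, hU, hxU, -⟩ := exists_isAffineOpen_mem_and_subset (U := ⊤) (x := x) trivial
  let φ := Spec.preimage (hU.fromSpec ≫ f)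
  letI : Algebra R Γ(X, U) := φ.hom.toAlgebra
  have hφ : hU.fromSpec ≫ f = Spec.map (CommRingCat.ofHom (algebraMap R Γ(X, U))) :=
    (Spec.map_preimage _).symm
  have het : Etale (Spec.map (CommRingCat.ofHom (algebraMap R Γ(X, U)))) := by rw [← hφ]; infer_instance
  rw [HasRingHomProperty.Spec_iff (P := @Etale)] at het
  haveI : Algebra.Etale R Γ(X, U) := RingHom.etale_algebraMap.1 het
  let p := hU.primeIdealOf ⟨x, hxU⟩
  let q := p.asIdeal
  have hq : q.comap (algebraMap R Γ(X, U)) = maximalIdeal R := by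
    have h1 : (hU.fromSpec ≫ f).base p = closedPoint R := by
      show f (hU.fromSpec p) = _
      rw [hU.fromSpec_primeIdealOf ⟨x, hxU⟩]; exact hx
    rw [hφ] at h1
    exact congrArg PrimeSpectrum.asIdeal h1
  haveI : Algebra.QuasiFiniteAt R q := inferInstance
  obtain ⟨e, -, heq, hinv⟩ := Hensel.exists_finIdem (R := R) q hq
  letI : Algebra Γ(X, U) (X.presheaf.stalk x) := (X.presheaf.germ U x hxU).hom.toAlgebra
  haveI : IsLocalization.AtPrime (X.presheaf.stalk x) q := hU.isLocalization_stalk ⟨x, hxU⟩
  haveI : IsLocalization.Away e (X.presheaf.stalk x) := by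
    refine IsLocalization.Away.mk e ?_ ?_ ?_
    · exact (IsLocalization.AtPrime.isUnit_to_map_iff _ q e).2 heq
    · intro s
      obtain ⟨a, t, rfl⟩ := IsLocalization.exists_mk'_eq q.primeCompl s
      obtain ⟨c, hc⟩ := hinv t t.2
      refine ⟨1, a * c * e, ?_⟩
      rw [pow_one, mul_comm, IsLocalization.mul_mk'_eq_mk'_of_mul, IsLocalization.mk'_eq_iff_eq_mul,
        ← map_mul]
      exact congrArg _ (by linear_combination (-a) * hc)
    · intro a b h
      obtain ⟨⟨c, hc⟩, hab⟩ := (IsLocalization.eq_iff_exists q.primeCompl _).1 h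
      obtain ⟨d, hd⟩ := hinv c hc
      refine ⟨1, ?_⟩
      have hab' : c * a = c * b := hab
      linear_combination (e * d) * hab' + (b - a) * hd
  haveI : IsOpenImmersion (Spec.map (X.presheaf.germ U x hxU)) :=
    IsOpenImmersion.of_isLocalization (S := X.presheaf.stalk x) e
  have he : X.fromSpecStalk x = Spec.map (X.presheaf.germ U x hxU) ≫ hU.fromSpec :=
    (hU.fromSpecStalk_eq_fromSpecStalk hxU).symm
  refine ⟨he ▸ inferInstance, ?_⟩
  rw [he, Category.assoc, hφ, ← Spec.map_comp, IsFinite.SpecMap_iff]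
  letI : Algebra R (X.presheaf.stalk x) :=
    ((X.presheaf.germ U x hxU).hom.comp (algebraMap R Γ(X, U))).toAlgebra
  haveI : IsScalarTower R Γ(X, U) (X.presheaf.stalk x) := IsScalarTower.of_algebraMap_eq fun _ => rfl
  haveI := Hensel.finite_localization (R := R) q hq
  haveI : Module.Finite R (X.presheaf.stalk x) :=
    Module.Finite.equiv ((IsLocalization.algEquiv q.primeCompl (Localization.AtPrime q)
      (X.presheaf.stalk x)).restrictScalars R).toLinearEquiv
  exact RingHom.finite_algebraMap.2 ‹_›

/-- The local scheme at a point over the closed point is a finite etale cover. -/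
theorem fromSpecStalk_cover {X : Scheme.{u}} (f : X ⟶ Spec (CommRingCat.of R)) [Etale f] [IsSeparated f]
    (x : X) (hx : f.base x = closedPoint R) :
    IsOpenImmersion (X.fromSpecStalk x) ∧ IsClosedImmersion (X.fromSpecStalk x) ∧
      IsFinite (X.fromSpecStalk x ≫ f) ∧ Etale (X.fromSpecStalk x ≫ f) ∧
      Surjective (X.fromSpecStalk x ≫ f) := by
  obtain ⟨ho, hfin⟩ := fromSpecStalk_open_finite f x hx
  haveI := ho
  haveI := hfin
  haveI : IsFinite (X.fromSpecStalk x) := IsFinite.of_comp _ f
  have het : Etale (X.fromSpecStalk x ≫ f) := inferInstance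
  haveI := het
  refine ⟨ho, (IsClosedImmersion.iff_isFinite_and_mono _).2 ⟨inferInstance, inferInstance⟩, hfin, het, ⟨fun t => ?_⟩⟩
  have hmem : closedPoint R ∈ Set.range (X.fromSpecStalk x ≫ f) :=
    ⟨closedPoint _, by rw [Scheme.Hom.comp_apply, Scheme.fromSpecStalk_closedPoint]; exact hx⟩
  exact (IsLocalRing.specializes_closedPoint t).mem_open (X.fromSpecStalk x ≫ f).isOpenMap.isOpen_range hmem

/-- Sections of an etale morphism over a local ring agreeing at the closed point agree. -/
theorem section_unique {R : Type u} [CommRing R] [IsLocalRing R] {X : Scheme.{u}}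
    (f : X ⟶ Spec (CommRingCat.of R)) [Etale f] (σ₁ σ₂ : Spec (CommRingCat.of R) ⟶ X)
    (h₁ : σ₁ ≫ f = 𝟙 _) (h₂ : σ₂ ≫ f = 𝟙 _)
    (h : Spec.map (CommRingCat.ofHom (residue R)) ≫ σ₁ = Spec.map (CommRingCat.ofHom (residue R)) ≫ σ₂) :
    σ₁ = σ₂ := by
  let c := Spec.map (CommRingCat.ofHom (residue R))
  let g := pullback.lift σ₁ σ₂ (by rw [h₁, h₂] : σ₁ ≫ f = σ₂ ≫ f)
  let a := pullback.fst g (pullback.diagonal f)
  haveI : Surjective a := ⟨fun t => by
    have hw : c ≫ g = (c ≫ σ₁) ≫ pullback.diagonal f := by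
      apply pullback.hom_ext <;> simp [g, c, h]
    have hmem : closedPoint R ∈ Set.range a := by
      refine ⟨pullback.lift c (c ≫ σ₁) hw (closedPoint (ResidueField R)), ?_⟩
      rw [← Scheme.Hom.comp_apply, pullback.lift_fst]
      exact PrimeSpectrum.ext (IsLocalRing.comap_closedPoint (residue R) |> congrArg PrimeSpectrum.asIdeal)
    exact (IsLocalRing.specializes_closedPoint t).mem_open a.isOpenEmbedding.isOpen_range hmem⟩
  haveI : IsIso a := isIso_of_isOpenImmersion_of_opensRange_eq_top _ (by
    ext t; simpa using a.surjective t)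
  have hc : g = (inv a ≫ pullback.snd g (pullback.diagonal f)) ≫ pullback.diagonal f := by
    rw [Category.assoc, ← pullback.condition, IsIso.inv_hom_id_assoc]
  have e₁ := congrArg (fun k => k ≫ pullback.fst f f) hc
  have e₂ := congrArg (fun k => k ≫ pullback.snd f f) hc
  simp only [g, pullback.lift_fst, pullback.lift_snd, Category.assoc, pullback.diagonal_fst,
    pullback.diagonal_snd, Category.comp_id] at e₁ e₂
  exact e₁.trans e₂.symm

/-- Two points of the closed fibre with a common generization coincide. -/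
theorem closedFibre_unique {X : Scheme.{u}} (f : X ⟶ Spec (CommRingCat.of R)) [Etale f] [IsSeparated f]
    {x₁ x₂ y : X} (hx₁ : f.base x₁ = closedPoint R) (hx₂ : f.base x₂ = closedPoint R)
    (h₁ : y ⤳ x₁) (h₂ : y ⤳ x₂) : x₁ = x₂ := by
  obtain ⟨-, hcl, -, -, -⟩ := fromSpecStalk_cover f x₁ hx₁
  haveI := hcl
  have hr := (X.fromSpecStalk x₁).isClosedEmbedding.isClosed_range
  rw [Scheme.range_fromSpecStalk] at hr
  have h : x₂ ⤳ x₁ := h₂.mem_closed hr h₁
  haveI := Unibranch.locallyQuasiFinite_of_etale f
  haveI := isDiscrete_iff_discreteTopology.mp (f.isDiscrete_preimage_singleton (closedPoint R))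
  exact (congrArg Subtype.val (specializes_iff_eq.mp
    ((Topology.IsInducing.subtypeVal).specializes_iff (x := (⟨x₂, hx₂⟩ : ↥(f ⁻¹' {closedPoint R})))
      (y := ⟨x₁, hx₁⟩) |>.1 h))).symm

/-- Every point of a twisted constant scheme over a local ring generizes a point of the closed fibre. -/
theorem exists_specialization_closedFibre {R : Type u} [CommRing R] [IsLocalRing R]
    (X : Over (Spec (CommRingCat.of R))) (hX : TwC.IsTwConst TwC.Topology.etale X) (y : X.left) :
    ∃ x : X.left, X.hom.base x = closedPoint R ∧ y ⤳ x := by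
  obtain ⟨S', g, hg, ⟨a, ha⟩, I, ⟨e⟩⟩ := hX (closedPoint R)
  haveI := hg
  obtain ⟨a', ha', hga'⟩ := Flat.generalizingMap g (IsLocalRing.specializes_closedPoint (X.hom y) |>.trans (specializes_of_eq ha.symm))
  haveI : IsIso e.hom.left := ((Over.forget _).mapIso e).isIso_hom
  let e' : pullback X.hom g ⟶ ∐ fun _ : I => S' := e.hom.left
  haveI : IsIso e' := ‹IsIso e.hom.left›
  have hw : e' ≫ Sigma.desc (fun _ : I => 𝟙 S') = pullback.snd X.hom g := Over.w e.hom
  obtain ⟨z, hz1, hz2⟩ := Scheme.Pullback.exists_preimage_pullback (f := X.hom) (g := g) y a' hga'.symm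
  obtain ⟨⟨i, c⟩, hc⟩ := (sigmaMk fun _ : I => S').surjective (e' z)
  rw [sigmaMk_mk] at hc
  let k : S' ⟶ X.left := Sigma.ι (fun _ : I => S') i ≫ inv e' ≫ pullback.fst X.hom g
  have hk : k ≫ X.hom = g := by
    simp only [k, Category.assoc, pullback.condition, ← hw]
    simp
  have hca : c = a' := by
    rw [← hz2, ← hw, Scheme.Hom.comp_apply, ← hc, ← Scheme.Hom.comp_apply, Sigma.ι_desc]; rfl
  refine ⟨k a, by rw [← Scheme.Hom.comp_apply, hk]; exact ha, ?_⟩
  have hy : k a' = y := by
    rw [← hca]
    simp only [k, Scheme.Hom.comp_apply]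
    rw [hc, ← Scheme.Hom.comp_apply e' (inv e'), IsIso.hom_inv_id]
    exact hz1
  rw [← hy]
  exact ha'.map k.continuous

end Groth.Agent.TwConst
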