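import Groth.Agent.TwConst.Basic
import Groth.Agent.Unibranch.Components
/-!
Open and closed subschemes of twisted constant schemes with a finite fibre.
-/

set_option autoImplicit false
set_option backward.isDefEq.respectTransparency false
set_option backward.isDefEq.respectTransparency.types false
set_option linter.style.haveILetI false

universe u

open CategoryTheory CategoryTheory.Limits AlgebraicGeometry MonoidalCategory

noncomputable section

namespace Groth.Agent.TwConst

/-- A small connected trivialisation inside a given open. -/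
theorem exists_nhd_connected {S : Scheme.{u}} [IsLocallyNoetherian S] {P : Over S} (hP : TwC.IsTwConst .etale P)
    (V : S.Opens) (t : S) (ht : t ∈ V) :
    ∃ (S' : Scheme.{u}) (f : S' ⟶ S), Etale f ∧ ConnectedSpace S' ∧ IsNoetherian S' ∧ t ∈ Set.range f ∧
      Set.range f ⊆ V ∧ ∃ I : Type u, Nonempty (Red.bc f P ≅ TwC.const S' I) := by
  obtain ⟨S₀, f, hf, ⟨a, rfl⟩, I, ⟨e⟩⟩ := hP t
  haveI := hf
  haveI : IsLocallyNoetherian S₀ := LocallyOfFiniteType.isLocallyNoetherian f
  obtain ⟨U, hU, haU, hUV⟩ := exists_isAffineOpen_mem_and_subset (X := S₀) (x := a) (U := f ⁻¹ᵁ V) ht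
  haveI : IsAffine (U : Scheme.{u}) := hU
  haveI : IsLocallyNoetherian (U : Scheme.{u}) := LocallyOfFiniteType.isLocallyNoetherian U.ι
  haveI : IsNoetherian (U : Scheme.{u}) := {}
  let C : (U : Scheme.{u}).Opens := ⟨connectedComponent ⟨a, haU⟩, ArtGrpLib.isOpen_connectedComponent _⟩
  haveI : ConnectedSpace (C : Scheme.{u}) := isConnected_iff_connectedSpace.mp isConnected_connectedComponent
  haveI : IsLocallyNoetherian (C : Scheme.{u}) := LocallyOfFiniteType.isLocallyNoetherian C.ι
  haveI : CompactSpace (C : Scheme.{u}) :=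
    isCompact_iff_compactSpace.mp (isClosed_connectedComponent.isCompact)
  haveI : IsNoetherian (C : Scheme.{u}) := {}
  refine ⟨C, (C.ι ≫ U.ι) ≫ f, inferInstance, inferInstance, inferInstance,
    ⟨⟨⟨a, haU⟩, mem_connectedComponent⟩, rfl⟩, ?_, I, trivial_comp _ e⟩
  rintro _ ⟨c, rfl⟩
  exact hUV c.1.2

theorem finite_or_infinite_on_range {S S' Z : Scheme.{u}} {P : Over S} (f : S' ⟶ S) [Etale f]
    [ConnectedSpace S'] [IsNoetherian S'] [IsLocallyNoetherian S] {I : Type u} (e : Red.bc f P ≅ TwC.const S' I) (z : Z ⟶ P.left)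
    [IsOpenImmersion z] [IsClosedImmersion z] (t : S) (ht : t ∈ Set.range f) (hfin : Set.Finite ((z ≫ P.hom) ⁻¹' {t})) :
    IsCompact ((z ≫ P.hom) ⁻¹' Set.range f) ∧ ∀ t' ∈ Set.range f, Set.Finite ((z ≫ P.hom) ⁻¹' {t'}) := by
  classical
  haveI : QuasiCompact f := ⟨fun _ _ _ => TopologicalSpace.NoetherianSpace.isCompact _⟩
  haveI : LocallyQuasiFinite f := Unibranch.locallyQuasiFinite_of_etale f
  haveI : IsIso e.hom.left := ((Over.forget _).mapIso e).isIso_hom
  let e' : pullback P.hom f ⟶ ∐ fun _ : I => S' := e.hom.left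
  haveI : IsIso e' := ‹IsIso e.hom.left›
  let Z' := pullback z (pullback.fst P.hom f)
  let p : Z' ⟶ Z := pullback.fst _ _
  let w : Z' ⟶ ∐ fun _ : I => S' := pullback.snd z (pullback.fst P.hom f) ≫ e'
  let q : Z' ⟶ S' := w ≫ Sigma.desc fun _ : I => 𝟙 S'
  have hw : e' ≫ Sigma.desc (fun _ : I => 𝟙 S') = pullback.snd P.hom f := Over.w e.hom
  have hq : q = pullback.snd z (pullback.fst P.hom f) ≫ pullback.snd P.hom f := by
    simp only [q, w, Category.assoc, hw]
  have hpb : IsPullback p q (z ≫ P.hom) f := by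
    rw [hq]
    exact ((IsPullback.of_hasPullback z _).flip.paste_horiz (IsPullback.of_hasPullback P.hom f).flip).flip
  haveI : LocallyQuasiFinite p := MorphismProperty.of_isPullback hpb.flip inferInstance
  haveI : QuasiCompact p := MorphismProperty.of_isPullback hpb.flip inferInstance
  have hwo : IsOpen (Set.range w) := w.isOpenEmbedding.isOpen_range
  have hwc : IsClosed (Set.range w) := w.isClosedEmbedding.isClosed_range
  have hwi : Function.Injective w := w.isOpenEmbedding.injective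
  let ι := fun i : I => Sigma.ι (fun _ : I => S') i
  have hd : ∀ i c, (Sigma.desc fun _ : I => 𝟙 S') (ι i c) = c := fun i c => by
    simp only [ι, ← Scheme.Hom.comp_apply, Sigma.ι_desc]; rfl
  let J : Set I := {i | ∃ c, ι i c ∈ Set.range w}
  have hJ : ∀ i ∈ J, ∀ c, ι i c ∈ Set.range w := fun i ⟨c₀, hc₀⟩ c => by
    have h : IsClopen ((ι i) ⁻¹' Set.range w) :=
      ⟨hwc.preimage (ι i).continuous, hwo.preimage (ι i).continuous⟩
    rcases isClopen_iff.mp h with h | h
    · exact absurd (h ▸ hc₀ : c₀ ∈ (∅ : Set S')) id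
    · exact (h.symm ▸ Set.mem_univ c : c ∈ (ι i) ⁻¹' Set.range w)
  have hmem : ∀ y, ∃ i ∈ J, ι i (q y) = w y := fun y => by
    obtain ⟨⟨i, c⟩, hc⟩ := (sigmaMk fun _ : I => S').surjective (w y)
    rw [sigmaMk_mk] at hc
    refine ⟨i, ⟨c, y, hc.symm⟩, ?_⟩
    show ι i ((w ≫ Sigma.desc fun _ : I => 𝟙 S') y) = w y
    rw [Scheme.Hom.comp_apply, ← hc, hd]
  have hfib : ∀ c, (z ≫ P.hom) ⁻¹' {f c} = p '' (q ⁻¹' {c}) := fun c => by
    ext a
    constructor
    · intro ha
      obtain ⟨y, h1, h2⟩ := Scheme.exists_preimage_of_isPullback hpb a c ha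
      exact ⟨y, h2, h1⟩
    · rintro ⟨y, hy, rfl⟩
      show (z ≫ P.hom) (p y) = f c
      rw [← Scheme.Hom.comp_apply, hpb.w, Scheme.Hom.comp_apply, Set.mem_singleton_iff.mp hy]
  obtain ⟨c₀, rfl⟩ := ht
  have hJfin : J.Finite := by
    have h1 : (q ⁻¹' {c₀}).Finite := (p.finite_preimage hfin).subset fun y hy => by
      rw [hfib]; exact ⟨y, hy, rfl⟩
    refine Set.Finite.subset ((h1.image w).preimage ?_) (show J ⊆ (fun i => ι i c₀) ⁻¹' (w '' (q ⁻¹' {c₀})) from fun i hi => ?_)
    · intro i _ j _ hij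
      by_contra hne
      have hdd := disjoint_iff.mp (disjoint_opensRange_sigmaι (fun _ : I => S') i j hne)
      have hm : ι i c₀ ∈ (Sigma.ι (fun _ : I => S') i).opensRange ⊓ (Sigma.ι (fun _ : I => S') j).opensRange :=
        ⟨⟨_, rfl⟩, ⟨c₀, hij.symm⟩⟩
      rw [hdd] at hm
      exact hm
    · obtain ⟨y, hy⟩ := hJ i hi c₀
      refine ⟨y, ?_, hy⟩
      show (w ≫ Sigma.desc fun _ : I => 𝟙 S') y = c₀
      rw [Scheme.Hom.comp_apply, hy, hd]
  refine ⟨?_, fun t' ⟨c, hc⟩ => ?_⟩
  · have hZ : IsCompact (Set.univ : Set Z') := by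
      rw [w.isOpenEmbedding.isInducing.isCompact_iff, Set.image_univ]
      refine (hJfin.isCompact_biUnion fun i _ => isCompact_range (ι i).continuous).of_isClosed_subset hwc ?_
      rintro _ ⟨y, rfl⟩
      obtain ⟨i, hi, h⟩ := hmem y
      exact Set.mem_biUnion hi ⟨q y, h⟩
    convert hZ.image p.continuous using 1
    ext a
    constructor
    · rintro ⟨c, hc⟩
      obtain ⟨y, h1, -⟩ := Scheme.exists_preimage_of_isPullback hpb a c hc.symm
      exact ⟨y, trivial, h1⟩
    · rintro ⟨y, -, rfl⟩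
      refine ⟨q y, ?_⟩
      rw [← Scheme.Hom.comp_apply, ← hpb.w, Scheme.Hom.comp_apply]
  · subst hc
    rw [hfib]
    refine Set.Finite.image _ (Set.Finite.subset ((hJfin.image fun i => ι i c).preimage hwi.injOn)
      fun y hy => ?_)
    obtain ⟨i, hi, h⟩ := hmem y
    exact ⟨i, hi, by rw [← h, Set.mem_singleton_iff.mp hy]⟩

/-- The locus of finite fibres of an open and closed subscheme of a twisted constant scheme is open and closed. -/
theorem isClopen_setOf_finite {S : Scheme.{u}} [IsLocallyNoetherian S]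
    (P : Over S) (hP : TwC.IsTwConst .etale P) {Z : Scheme.{u}} (z : Z ⟶ P.left) [IsOpenImmersion z]
    [IsClosedImmersion z] : IsClopen {t : S | Set.Finite ((z ≫ P.hom) ⁻¹' {t})} := by
  classical
  let A : Set S := {t | Set.Finite ((z ≫ P.hom) ⁻¹' {t})}
  show IsClopen A
  constructor
  · refine isOpen_compl_iff.mp (isOpen_iff_forall_mem_open.mpr fun t ht => ?_)
    obtain ⟨S', f, hf, _, _, htr, -, I, ⟨e⟩⟩ := exists_nhd_connected hP ⊤ t trivial
    exact ⟨Set.range f, fun t' ht' h => ht ((finite_or_infinite_on_range f e z t' ht' h).2 t htr),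
      f.isOpenMap.isOpen_range, htr⟩
  · refine isOpen_iff_forall_mem_open.mpr fun t ht => ?_
    obtain ⟨S', f, hf, _, _, htr, -, I, ⟨e⟩⟩ := exists_nhd_connected hP ⊤ t trivial
    exact ⟨Set.range f, fun t' ht' => (finite_or_infinite_on_range f e z t htr ht).2 t' ht',
      f.isOpenMap.isOpen_range, htr⟩

/-- An open and closed subscheme with finite fibres of a twisted constant scheme is quasi-compact. -/
theorem quasiCompact_of_fibres_finite {S : Scheme.{u}} [IsLocallyNoetherian S]
    (P : Over S) (hP : TwC.IsTwConst .etale P) {Z : Scheme.{u}} (z : Z ⟶ P.left) [IsOpenImmersion z]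
    [IsClosedImmersion z] (hs : ∀ s : S, Set.Finite ((z ≫ P.hom) ⁻¹' {s})) : QuasiCompact (z ≫ P.hom) := by
  classical
  refine ⟨fun V hVo hVc => ?_⟩
  choose S' f hf hc hn htr hV I he using fun t : V => exists_nhd_connected hP ⟨V, hVo⟩ t.1 t.2
  obtain ⟨F, hF⟩ := hVc.elim_finite_subcover (fun t : V => Set.range (f t))
    (fun t => haveI := hf t; (f t).isOpenMap.isOpen_range) (fun t ht => Set.mem_iUnion.mpr ⟨⟨t, ht⟩, htr _⟩)
  have hEq : (z ≫ P.hom) ⁻¹' V = ⋃ t ∈ F, (z ≫ P.hom) ⁻¹' Set.range (f t) := by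
    rw [← Set.preimage_iUnion₂]
    exact congrArg _ (subset_antisymm hF (Set.iUnion₂_subset fun t _ => hV t))
  rw [hEq]
  refine F.isCompact_biUnion fun t _ => ?_
  haveI := hf t; haveI := hc t; haveI := hn t
  obtain ⟨e⟩ := he t
  exact (finite_or_infinite_on_range (f t) e z t.1 (htr t) (hs t.1)).1

/-- An open and closed subscheme with one finite fibre of a twisted constant scheme over a connected base is quasi-compact. -/
theorem quasiCompact_of_fibre_finite {S : Scheme.{u}} [IsLocallyNoetherian S] [ConnectedSpace S]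
    (P : Over S) (hP : TwC.IsTwConst .etale P) {Z : Scheme.{u}} (z : Z ⟶ P.left) [IsOpenImmersion z]
    [IsClosedImmersion z] (hs : ∃ s : S, Set.Finite ((z ≫ P.hom) ⁻¹' {s})) : QuasiCompact (z ≫ P.hom) :=
  quasiCompact_of_fibres_finite P hP z fun s =>
    ((isClopen_setOf_finite P hP z).eq_univ hs).symm.subset (Set.mem_univ s)

end Groth.Agent.TwConst
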