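import Groth.Agent.TwConst.Clopen
import Groth.Agent.HensBranch.EtaleUp
import Groth.Agent.FinCondEasy.Components
import Groth.Agent.CompTopLib.Basic
/-!
Twisted constant schemes over geometrically unibranch bases.
-/

set_option autoImplicit false
set_option backward.isDefEq.respectTransparency false
set_option backward.isDefEq.respectTransparency.types false
set_option linter.style.haveILetI false

universe u

open CategoryTheory CategoryTheory.Limits AlgebraicGeometry MonoidalCategory

noncomputable section

namespace Groth.Agent.TwConst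

/-- A connected noetherian geometrically unibranch scheme is irreducible. -/
theorem irreducibleSpace_of_geomUnibranch {X : Scheme.{u}} [IsNoetherian X] [ConnectedSpace X]
    (h : ∀ x : X, CAlg2.IsGeomUnibranch (X.presheaf.stalk x)) : IrreducibleSpace X := by
  have hd : (irreducibleComponents (X : Type u)).PairwiseDisjoint id :=
    (FinCondEasy.pairwiseDisjoint_iff X).2 fun x => by
      haveI : IsDomain (CAlg2.red (X.presheaf.stalk x)) := (h x).1.1
      exact (Ideal.Quotient.isDomain_iff_prime _).1 this
  obtain ⟨x⟩ := (inferInstance : Nonempty X)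
  have ho : IsOpen (irreducibleComponent x) := CompTopLib.isOpen_of_disjoint (fun A hA B hB hne => hd hA hB hne)
    (fun _ => ⟨Set.univ, isOpen_univ, trivial,
      (TopologicalSpace.NoetherianSpace.finite_irreducibleComponents (α := X)).subset fun A hA => hA.1⟩)
    (irreducibleComponent_mem_irreducibleComponents x)
  have hu := IsClopen.eq_univ ⟨isClosed_irreducibleComponent, ho⟩ ⟨x, mem_irreducibleComponent⟩
  have hi := (isIrreducible_irreducibleComponent (x := x))
  rw [hu] at hi
  exact (irreducibleSpace_def _).2 hi

/-- Every point has an open irreducible neighbourhood which is the image of an etale irreducible cover member. -/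
theorem exists_chart {S : Scheme.{u}} [IsLocallyNoetherian S]
    (hS : ∀ s : S, CAlg2.IsGeomUnibranch (S.presheaf.stalk s))
    (P : Over S) (hP : TwC.IsTwConst .etale P) (x : P.left) :
    ∃ (S' : Scheme.{u}) (j : S' ⟶ P.left), IrreducibleSpace S' ∧ Etale (j ≫ P.hom) ∧ IsOpen (Set.range j) ∧
      x ∈ Set.range j := by
  obtain ⟨S', f, hf, hc, hn, ⟨c, hc'⟩, -, I, ⟨e⟩⟩ := exists_nhd_connected hP ⊤ (P.hom x) trivial
  haveI := hf
  haveI : IrreducibleSpace S' :=
    irreducibleSpace_of_geomUnibranch fun y => HensBranch.isGeomUnibranch_of_etale f y (hS _)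
  haveI : IsIso e.hom.left := ((Over.forget _).mapIso e).isIso_hom
  let e' : pullback P.hom f ⟶ ∐ fun _ : I => S' := e.hom.left
  haveI : IsIso e' := ‹IsIso e.hom.left›
  obtain ⟨v, hv, hvc⟩ := Scheme.Pullback.exists_preimage_pullback (f := P.hom) (g := f) x c hc'.symm
  obtain ⟨⟨i, d⟩, hd⟩ := (sigmaMk fun _ : I => S').surjective (e' v)
  rw [sigmaMk_mk] at hd
  let k : S' ⟶ pullback P.hom f := Sigma.ι (fun _ : I => S') i ≫ inv e'
  have hk : (k ≫ pullback.fst P.hom f) ≫ P.hom = f := by
    have hw : e' ≫ Sigma.desc (fun _ : I => 𝟙 S') = pullback.snd P.hom f := Over.w e.hom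
    simp only [k, Category.assoc, pullback.condition, ← hw]
    simp
  refine ⟨S', k ≫ pullback.fst P.hom f, inferInstance, by rw [hk]; infer_instance, ?_, d, ?_⟩
  · rw [Scheme.Hom.comp_base, TopCat.coe_comp, Set.range_comp]
    exact (pullback.fst P.hom f).isOpenMap _ k.isOpenEmbedding.isOpen_range
  · rw [Scheme.Hom.comp_apply, Scheme.Hom.comp_apply, hd, ← Scheme.Hom.comp_apply e' (inv e'), IsIso.hom_inv_id]
    exact hv

/-- Connected components are open and have a finite fibre. -/
theorem connectedComponent_open_fibre_finite {S : Scheme.{u}} [IsLocallyNoetherian S]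
    (hS : ∀ s : S, CAlg2.IsGeomUnibranch (S.presheaf.stalk s))
    (P : Over S) (hP : TwC.IsTwConst .etale P) (x : P.left) :
    IsOpen (connectedComponent x) ∧ ∃ t : S, (connectedComponent x ∩ P.hom ⁻¹' {t}).Finite ∧
      P.hom x ∈ connectedComponent t := by
  choose S' j hirr het hop hmem using exists_chart hS P hP
  have hNirr : ∀ y, IsIrreducible (Set.range (j y)) := fun y => by
    haveI := hirr y
    rw [← Set.image_univ]
    exact (IrreducibleSpace.isIrreducible_univ _).image _ (j y).continuous.continuousOn
  have hsub : ∀ y ∈ connectedComponent x, Set.range (j y) ⊆ connectedComponent x := fun y hy => by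
    rw [connectedComponent_eq hy]
    exact (hNirr y).isConnected.subset_connectedComponent (hmem y)
  have hopen : IsOpen (connectedComponent x) :=
    isOpen_iff_forall_mem_open.2 fun y hy => ⟨_, hsub y hy, hop y, hmem y⟩
  -- the irreducible component of x is everything
  obtain ⟨ξ, hξ⟩ := QuasiSober.sober (isIrreducible_irreducibleComponent (x := x)) isClosed_irreducibleComponent
  have hgen : ∀ y ∈ connectedComponent x, ξ ⤳ y := by
    have hN : ∀ y, ξ ∈ Set.range (j y) → ∀ z ∈ Set.range (j y), ξ ⤳ z := fun y hy z hz => by
      obtain ⟨γ, hγ⟩ := QuasiSober.sober (hNirr y).closure isClosed_closure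
      have hγξ : γ ⤳ ξ := hγ.specializes (subset_closure hy)
      have hsub' : irreducibleComponent x ⊆ closure (Set.range (j y)) := by
        rw [← hξ.def, ← hγ.def]
        exact hγξ.closure_subset
      have := (irreducibleComponent_mem_irreducibleComponents x).2 (hNirr y).closure hsub'
      exact hξ.specializes (this (subset_closure hz))
    have hcl : IsOpen {y | ξ ⤳ y} := isOpen_iff_forall_mem_open.2 fun y hy =>
      ⟨_, hN y (hy.mem_open (hop y) (hmem y)), hop y, hmem y⟩
    have hclo : IsClosed {y | ξ ⤳ y} := by
      simp only [specializes_iff_mem_closure]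
      exact isClosed_closure
    intro y hy
    exact IsClopen.connectedComponent_subset ⟨hclo, hcl⟩
      (show x ∈ {y | ξ ⤳ y} from hξ.specializes mem_irreducibleComponent) hy
  have hξx : ξ ⤳ x := hξ.specializes mem_irreducibleComponent
  refine ⟨hopen, P.hom ξ, Set.Finite.subset (Set.finite_singleton ξ) ?_, ?_⟩
  · rintro y ⟨hy, hyt⟩
    obtain ⟨c, hc⟩ := hmem y
    haveI := hirr y
    haveI := het y
    obtain ⟨c₁, hc₁⟩ := (hgen y hy).mem_open (hop y) (hmem y)
    have hgξ : genericPoint (S' y) ⤳ c₁ := genericPoint_specializes c₁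
    have hjg : j y (genericPoint (S' y)) = ξ := by
      refine Inseparable.eq (Specializes.antisymm ?_ (hgen _ (hsub y hy ⟨_, rfl⟩)))
      rw [← hc₁]
      exact hgξ.map (j y).continuous
    haveI := Unibranch.locallyQuasiFinite_of_etale (j y ≫ P.hom)
    let g := j y ≫ P.hom
    have hgc : g c = g (genericPoint (S' y)) := by
      simp only [g, Scheme.Hom.comp_apply, hc, hjg]
      exact hyt
    haveI := isDiscrete_iff_discreteTopology.mp (g.isDiscrete_preimage_singleton (g c))
    have hceq : genericPoint (S' y) = c := congrArg Subtype.val (specializes_iff_eq.mp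
      ((Topology.IsInducing.subtypeVal).specializes_iff (x := (⟨_, hgc.symm⟩ : ↥(g ⁻¹' {g c})))
        (y := ⟨c, rfl⟩) |>.mp (genericPoint_specializes c)))
    show y = ξ
    rw [← hc, ← hceq, hjg]
  · exact closure_minimal (Set.singleton_subset_iff.2 mem_connectedComponent) isClosed_connectedComponent
      ((hξx.map P.hom.continuous).mem_closure)

end Groth.Agent.TwConst
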